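import Groth.Agent.FlatDevBC.Fiber
import Groth.Agent.FlatClosed.Basic
import Mathlib.AlgebraicGeometry.Geometrically.Irreducible
import Mathlib.AlgebraicGeometry.Morphisms.UniversallyOpen
import Mathlib.RingTheory.Spectrum.Prime.Chevalley
import Mathlib.RingTheory.Smooth.Flat

/-! One-step dévissages on standard opens. -/

universe u

set_option autoImplicit false
set_option backward.isDefEq.respectTransparency false
set_option backward.isDefEq.respectTransparency.types false
attribute [-instance] CategoryTheory.catToReflQuiver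

open TensorProduct AlgebraicGeometry CategoryTheory

namespace Groth.Agent.FlatDevLoc

open Groth.Agent.FlatDevBC

theorem purelyTranscendental_of_bijective {R R' T T' : Type u} [CommRing R] [CommRing R'] [Algebra R R']
    [CommRing T] [CommRing T'] [Algebra R T] [Algebra R' T'] [Algebra R T'] [Algebra T T']
    [IsScalarTower R R' T'] [IsScalarTower R T T'] (p : Ideal R) [p.IsPrime] (p' : Ideal R') [p'.IsPrime]
    [hp : p'.LiesOver p]
    (hκ : Function.Bijective (Ideal.ResidueField.mapₐ p p' (Algebra.ofId R R') hp.over))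
    (y : Ideal T) [y.IsPrime] [hy0 : y.LiesOver p] (y' : Ideal T') [y'.IsPrime] [hy : y'.LiesOver y]
    [hyp : y'.LiesOver p'] (hy' : Function.Bijective (Ideal.ResidueField.map y y' (algebraMap T T') hy.over))
    (h : FlatCA.PurelyTranscendental p y) : FlatCA.PurelyTranscendental p' y' := by
  let K := y.ResidueField
  let K' := y'.ResidueField
  let k := p.ResidueField
  let k' := p'.ResidueField
  letI a1 : Algebra k K := (Ideal.ResidueField.mapₐ p y (Algebra.ofId R T) hy0.over).toRingHom.toAlgebra
  letI a2 : Algebra k' K' := (Ideal.ResidueField.mapₐ p' y' (Algebra.ofId R' T') hyp.over).toRingHom.toAlgebra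
  letI a3 : Algebra k k' := (Ideal.ResidueField.mapₐ p p' (Algebra.ofId R R') hp.over).toRingHom.toAlgebra
  letI a4 : Algebra k K' := ((algebraMap k' K').comp (algebraMap k k')).toAlgebra
  haveI : IsScalarTower k k' K' := IsScalarTower.of_algebraMap_eq' rfl
  let m := Ideal.ResidueField.map y y' (algebraMap T T') hy.over
  have hm : m.comp (algebraMap k K) = algebraMap k K' := by
    apply IsLocalization.ringHom_ext (nonZeroDivisors (R ⧸ p))
    refine Ideal.Quotient.ringHom_ext (RingHom.ext fun r => ?_)
    simp only [RingHom.coe_comp, Function.comp_apply, Ideal.algebraMap_quotient_residueField_mk]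
    show Ideal.ResidueField.map y y' (algebraMap T T') hy.over
        (Ideal.ResidueField.mapₐ p y (Algebra.ofId R T) hy0.over (algebraMap R k r)) =
      Ideal.ResidueField.mapₐ p' y' (Algebra.ofId R' T') hyp.over
        (Ideal.ResidueField.mapₐ p p' (Algebra.ofId R R') hp.over (algebraMap R k r))
    rw [AlgHom.commutes, AlgHom.commutes, IsScalarTower.algebraMap_apply R T K,
      Ideal.ResidueField.map_algebraMap, IsScalarTower.algebraMap_apply R R' k', AlgHom.commutes,
      IsScalarTower.algebraMap_apply R' T' K', ← IsScalarTower.algebraMap_apply R T T',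
      ← IsScalarTower.algebraMap_apply R R' T']
  let e : K ≃ₐ[k] K' := AlgEquiv.ofBijective ({ m with commutes' := fun r => RingHom.congr_fun hm r } : K →ₐ[k] K')
    hy'
  obtain ⟨ι, x, hx, hadj⟩ := h
  have hx' : IsTranscendenceBasis k (e ∘ x) := e.isTranscendenceBasis hx
  refine ⟨ι, e ∘ x, ⟨(algebraicIndependent_congr hκ _).1 hx'.1, fun s hs hss => ?_⟩, ?_⟩
  · exact hx'.2 s ((algebraicIndependent_congr (k := k) (k' := k') hκ _).2 hs) hss
  · rw [eq_top_iff]
    intro z _
    obtain ⟨w, rfl⟩ := e.surjective z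
    have hle : (IntermediateField.adjoin k (Set.range x)).map e.toAlgHom ≤
        (IntermediateField.adjoin k' (Set.range (e ∘ x))).restrictScalars k := by
      rw [IntermediateField.adjoin_map, ← Set.range_comp]
      exact IntermediateField.adjoin_le_iff.2 (IntermediateField.subset_adjoin k' _)
    refine hle ?_
    rw [IntermediateField.mem_map]
    exact ⟨w, by rw [show IntermediateField.adjoin k (Set.range x) = ⊤ from hadj]; trivial, rfl⟩

theorem residueField_bijective_of_isLocalization {T T' : Type u} [CommRing T] [CommRing T'] [Algebra T T']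
    (M : Submonoid T) [IsLocalization M T'] (y : Ideal T) [y.IsPrime] (y' : Ideal T') [y'.IsPrime]
    [hy : y'.LiesOver y] : Function.Bijective (Ideal.ResidueField.map y y' (algebraMap T T') hy.over) :=
  (RingHom.surjectiveOnStalks_of_isLocalization (M := M) T').residueFieldMap_bijective y y' hy.over

theorem residueField_bijectiveₐ_of_isLocalization {T T' : Type u} [CommRing T] [CommRing T'] [Algebra T T']
    (M : Submonoid T) [IsLocalization M T'] (y : Ideal T) [y.IsPrime] (y' : Ideal T') [y'.IsPrime]
    [hy : y'.LiesOver y] :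
    Function.Bijective (Ideal.ResidueField.mapₐ y y' (Algebra.ofId T T') hy.over) :=
  (RingHom.surjectiveOnStalks_of_isLocalization (M := M) T').residueFieldMap_bijective y y' hy.over

/-- Passing to an open subspace keeps the local dimension. -/
theorem localDim_of_isOpenEmbedding {X Y : Type u} [TopologicalSpace X] [TopologicalSpace Y] (f : Y → X)
    (hf : Topology.IsOpenEmbedding f) (y : Y) : FlatMor.localDim Y y = FlatMor.localDim X (f y) := by
  refine le_antisymm (le_iInf fun U => ?_) (le_iInf fun V => ?_)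
  · refine iInf_le_of_le ⟨⟨f ⁻¹' U.1, U.1.2.preimage hf.continuous⟩, U.2⟩ ?_
    exact (hf.isEmbedding.restrictPreimage (U.1 : Set X)).isInducing.topologicalKrullDim_le
  · refine iInf_le_of_le ⟨⟨f '' V.1, hf.isOpenMap _ V.1.2⟩, ⟨y, V.2, rfl⟩⟩ ?_
    exact ((hf.isEmbedding.homeomorphImage (V.1 : Set Y)).isHomeomorph.topologicalKrullDim_eq).ge

theorem supportDim_eq_topologicalKrullDim (F M : Type u) [CommRing F] [AddCommGroup M] [Module F M]
    [Module.Finite F M] : topologicalKrullDim (Module.support F M) = Module.supportDim F M := by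
  rw [Module.supportDim_eq_ringKrullDim_quotient_annihilator,
    ← PrimeSpectrum.topologicalKrullDim_eq_ringKrullDim]
  have h := (PrimeSpectrum.isClosedEmbedding_comap_of_surjective _ (Ideal.Quotient.mk (Module.annihilator F M))
    Ideal.Quotient.mk_surjective).isEmbedding
  let e := h.toHomeomorph.trans (Homeomorph.setCongr (show _ = Module.support F M by
    rw [range_comap_of_surjective _ _ Ideal.Quotient.mk_surjective, Ideal.mk_ker,
      Module.support_eq_zeroLocus]))
  exact (e.isHomeomorph.topologicalKrullDim_eq).symm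

theorem primesOver_fiberIdeal {R T : Type u} [CommRing R] [CommRing T] [Algebra R T] (p : Ideal R) [p.IsPrime]
    (r : Ideal T) [hr' : r.IsPrime] (hr : r.LiesOver p) :
    (PrimeSpectrum.primesOverOrderIsoFiber R T p ⟨r, hr', hr⟩).asIdeal = FlatCA.fiberIdeal p r := by
  let o := PrimeSpectrum.primesOverOrderIsoFiber R T p
  let y := o ⟨r, hr', hr⟩
  have hy : (o.symm y).1 = r := congrArg (fun z => z.1) (o.symm_apply_apply ⟨r, hr', hr⟩)
  show y.asIdeal = r.map _
  refine le_antisymm (fun z hz => ?_) (Ideal.map_le_iff_le_comap.2 hy.ge)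
  obtain ⟨a, ha, t, ht⟩ := Ideal.Fiber.exists_smul_eq_one_tmul p z
  have hu : IsUnit (algebraMap R (p.Fiber T) a) := by
    rw [IsScalarTower.algebraMap_apply R p.ResidueField (p.Fiber T)]
    refine (IsUnit.mk0 _ ?_).map _
    rw [ne_eq, Ideal.algebraMap_residueField_eq_zero]
    exact ha
  rw [← Ideal.unit_mul_mem_iff_mem _ hu, ← Algebra.smul_def, ht]
  refine Ideal.mem_map_of_mem (Algebra.TensorProduct.includeRight (R := R) (A := p.ResidueField) (B := T)).toRingHom ?_
  rw [← hy]
  show (1 : p.ResidueField) ⊗ₜ[R] t ∈ y.asIdeal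
  rw [← ht, Algebra.smul_def]
  exact Ideal.mul_mem_left _ _ hz

/-- The fibre spectrum after localizing upstairs and downstairs. -/
theorem exists_fiber_openEmbedding {R R' S S' : Type u} [CommRing R] [CommRing R'] [Algebra R R']
    [CommRing S] [Algebra R S] [CommRing S'] [Algebra R' S'] [Algebra R S'] [Algebra S S']
    [IsScalarTower R R' S'] [IsScalarTower R S S']
    (g : R) [IsLocalization.Away g R'] (h : S) [IsLocalization.Away h S']
    (p : Ideal R) [p.IsPrime] (p' : Ideal R') [p'.IsPrime] [hp : p'.LiesOver p] :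
    ∃ F : PrimeSpectrum (p'.Fiber S') → PrimeSpectrum (p.Fiber S),
      Topology.IsOpenEmbedding F ∧ ∀ x, ((PrimeSpectrum.primesOverOrderIsoFiber R S p).symm (F x)).1 =
        ((PrimeSpectrum.primesOverOrderIsoFiber R' S' p').symm x).1.comap (algebraMap S S') := by
  let H := PrimeSpectrum.preimageHomeomorphFiber R S ⟨p, inferInstance⟩
  let H' := PrimeSpectrum.preimageHomeomorphFiber R' S' ⟨p', inferInstance⟩
  let c := PrimeSpectrum.comap (algebraMap S S')
  have hc : Topology.IsOpenEmbedding c := PrimeSpectrum.localization_away_isOpenEmbedding S' h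
  have hcR : Function.Injective (PrimeSpectrum.comap (algebraMap R R')) :=
    (PrimeSpectrum.localization_away_isOpenEmbedding R' g).injective
  have hmaps : ∀ z, z ∈ PrimeSpectrum.comap (algebraMap R' S') ⁻¹' {(⟨p', inferInstance⟩ : PrimeSpectrum R')} ↔
      c z ∈ PrimeSpectrum.comap (algebraMap R S) ⁻¹' {(⟨p, inferInstance⟩ : PrimeSpectrum R)} := fun z => by
    have e : PrimeSpectrum.comap (algebraMap R S) (c z) =
        PrimeSpectrum.comap (algebraMap R R') (PrimeSpectrum.comap (algebraMap R' S') z) := by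
      rw [← PrimeSpectrum.comap_comp_apply, ← PrimeSpectrum.comap_comp_apply, ← IsScalarTower.algebraMap_eq,
        ← IsScalarTower.algebraMap_eq]
    have e2 : (⟨p, inferInstance⟩ : PrimeSpectrum R) = PrimeSpectrum.comap (algebraMap R R') ⟨p', inferInstance⟩ :=
      PrimeSpectrum.ext hp.over
    simp only [Set.mem_preimage, Set.mem_singleton_iff]
    rw [e, e2]
    exact ⟨fun hz => by rw [hz], fun hz => hcR hz⟩
  let c₀ : (PrimeSpectrum.comap (algebraMap R' S') ⁻¹' {(⟨p', inferInstance⟩ : PrimeSpectrum R')}) →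
      (PrimeSpectrum.comap (algebraMap R S) ⁻¹' {(⟨p, inferInstance⟩ : PrimeSpectrum R)}) :=
    fun z => ⟨c z.1, (hmaps z.1).1 z.2⟩
  have hc₀ : Topology.IsOpenEmbedding c₀ := by
    let s := PrimeSpectrum.comap (algebraMap R S) ⁻¹' {(⟨p, inferInstance⟩ : PrimeSpectrum R)}
    let e := Homeomorph.setCongr (show PrimeSpectrum.comap (algebraMap R' S') ⁻¹' {(⟨p', inferInstance⟩ : PrimeSpectrum R')}
      = c ⁻¹' s from Set.ext hmaps)
    exact (hc.restrictPreimage s).comp e.isOpenEmbedding
  refine ⟨fun x => H (c₀ (H'.symm x)), (H.isOpenEmbedding.comp hc₀).comp H'.symm.isOpenEmbedding, fun x => ?_⟩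
  show (H.symm (H (c₀ (H'.symm x)))).1.asIdeal = (H'.symm x).1.asIdeal.comap (algebraMap S S')
  rw [H.symm_apply_apply]
  rfl

/-- The support of the fibre module and its local dimension after localizing upstairs and downstairs. -/
theorem exists_localDim_openEmbedding {R R' S S' N N' : Type u} [CommRing R] [CommRing R'] [Algebra R R']
    [CommRing S] [Algebra R S] [CommRing S'] [Algebra R' S'] [Algebra R S'] [Algebra S S']
    [IsScalarTower R R' S'] [IsScalarTower R S S'] [AddCommGroup N] [Module S N] [Module R N]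
    [IsScalarTower R S N] [Module.Finite S N] [AddCommGroup N'] [Module S' N'] [Module R' N']
    [IsScalarTower R' S' N'] [Module S N'] [IsScalarTower S S' N'] (l : N →ₗ[S] N') (hl : IsBaseChange S' l)
    (g : R) [IsLocalization.Away g R'] (h : S) [IsLocalization.Away h S']
    (p : Ideal R) [p.IsPrime] (p' : Ideal R') [p'.IsPrime] [hp : p'.LiesOver p]
    (q : Ideal S) [q.IsPrime] [hq : q.LiesOver p] (q' : Ideal S') [q'.IsPrime] [hq' : q'.LiesOver q]
    [hqp : q'.LiesOver p'] (n : ℕ)
    (h1 : ∃ (ξ : PrimeSpectrum (p.Fiber S)) (hξ : ξ ∈ Module.support (p.Fiber S) (FlatCA.fiberMod p S N)),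
      ξ.asIdeal = FlatCA.fiberIdeal p q ∧
      FlatMor.localDim (Module.support (p.Fiber S) (FlatCA.fiberMod p S N)) ⟨ξ, hξ⟩ = n) :
    topologicalKrullDim (Module.support (p'.Fiber S') (FlatCA.fiberMod p' S' N')) ≤
      topologicalKrullDim (Module.support (p.Fiber S) (FlatCA.fiberMod p S N)) ∧
    ∃ (ξ : PrimeSpectrum (p'.Fiber S')) (hξ : ξ ∈ Module.support (p'.Fiber S') (FlatCA.fiberMod p' S' N')),
      ξ.asIdeal = FlatCA.fiberIdeal p' q' ∧
      FlatMor.localDim (Module.support (p'.Fiber S') (FlatCA.fiberMod p' S' N')) ⟨ξ, hξ⟩ = n := by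
  haveI : Module.Finite S' N' := Module.Finite.equiv hl.equiv
  obtain ⟨F, hF, hover⟩ := exists_fiber_openEmbedding (R' := R') (S' := S') g h p p'
  have hmem : ∀ x, x ∈ Module.support (p'.Fiber S') (FlatCA.fiberMod p' S' N') ↔
      F x ∈ Module.support (p.Fiber S) (FlatCA.fiberMod p S N) := fun x => by
    rw [mem_support_fiber_iff, mem_support_fiber_iff, hover x]
    haveI := ((PrimeSpectrum.primesOverOrderIsoFiber R' S' p').symm x).2.1
    exact (Module.mem_support_iff_of_finite (p := (⟨_, this⟩ : PrimeSpectrum S'))).symm.trans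
      ((Groth.Agent.QCoh.mem_support_baseChange hl _).trans Module.mem_support_iff_of_finite)
  obtain ⟨ξ, hξ, hξe, hξd⟩ := h1
  let z' := PrimeSpectrum.primesOverOrderIsoFiber R' S' p' ⟨q', inferInstance, hqp⟩
  have hz' : F z' = ξ := by
    apply (PrimeSpectrum.primesOverOrderIsoFiber R S p).symm.injective
    apply Subtype.ext
    rw [hover, OrderIso.symm_apply_apply]
    show q'.comap (algebraMap S S') = _
    rw [show ξ = PrimeSpectrum.primesOverOrderIsoFiber R S p ⟨q, inferInstance, hq⟩ from
      PrimeSpectrum.ext (hξe.trans (primesOver_fiberIdeal p q hq).symm), OrderIso.symm_apply_apply]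
    exact hq'.over.symm
  haveI : Module.Finite (p'.Fiber S') (FlatCA.fiberMod p' S' N') :=
    letI : Algebra S' (p'.Fiber S') := Algebra.TensorProduct.rightAlgebra
    inferInstanceAs (Module.Finite (p'.Fiber S') ((p'.Fiber S') ⊗[S'] N'))
  haveI : Module.Finite (p.Fiber S) (FlatCA.fiberMod p S N) :=
    letI : Algebra S (p.Fiber S) := Algebra.TensorProduct.rightAlgebra
    inferInstanceAs (Module.Finite (p.Fiber S) ((p.Fiber S) ⊗[S] N))
  let A := Module.support (p'.Fiber S') (FlatCA.fiberMod p' S' N')
  let f : A → Module.support (p.Fiber S) (FlatCA.fiberMod p S N) := fun x => ⟨F x.1, (hmem x.1).1 x.2⟩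
  have hf : Topology.IsOpenEmbedding f :=
    (hF.restrictPreimage _).comp (Homeomorph.setCongr (show A =
      F ⁻¹' Module.support (p.Fiber S) (FlatCA.fiberMod p S N) from Set.ext hmem)).isOpenEmbedding
  have hz : z' ∈ A := (hmem z').2 (hz'.symm ▸ hξ)
  have hd : FlatMor.localDim A ⟨z', hz⟩ = n := by
    rw [localDim_of_isOpenEmbedding f hf ⟨z', hz⟩, ← hξd]
    congr 1
    exact Subtype.ext hz'
  exact ⟨hf.isEmbedding.isInducing.topologicalKrullDim_le, z', hz, primesOver_fiberIdeal p' q' hqp, hd⟩

/-- The support of the fibre module after localizing upstairs and downstairs. -/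
theorem exists_support_openEmbedding {R R' S S' N N' : Type u} [CommRing R] [CommRing R'] [Algebra R R']
    [CommRing S] [Algebra R S] [CommRing S'] [Algebra R' S'] [Algebra R S'] [Algebra S S']
    [IsScalarTower R R' S'] [IsScalarTower R S S'] [AddCommGroup N] [Module S N] [Module R N]
    [IsScalarTower R S N] [Module.Finite S N] [AddCommGroup N'] [Module S' N'] [Module R' N']
    [IsScalarTower R' S' N'] [Module S N'] [IsScalarTower S S' N'] (l : N →ₗ[S] N') (hl : IsBaseChange S' l)
    (g : R) [IsLocalization.Away g R'] (h : S) [IsLocalization.Away h S']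
    (p : Ideal R) [p.IsPrime] (p' : Ideal R') [p'.IsPrime] [hp : p'.LiesOver p]
    (q : Ideal S) [q.IsPrime] [hq : q.LiesOver p] (q' : Ideal S') [q'.IsPrime] [hq' : q'.LiesOver q]
    [hqp : q'.LiesOver p'] (n : ℕ) (hdim : Module.supportDim (p.Fiber S) (FlatCA.fiberMod p S N) = n)
    (h1 : ∃ (ξ : PrimeSpectrum (p.Fiber S)) (hξ : ξ ∈ Module.support (p.Fiber S) (FlatCA.fiberMod p S N)),
      ξ.asIdeal = FlatCA.fiberIdeal p q ∧
      FlatMor.localDim (Module.support (p.Fiber S) (FlatCA.fiberMod p S N)) ⟨ξ, hξ⟩ = n) :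
    Module.supportDim (p'.Fiber S') (FlatCA.fiberMod p' S' N') = n ∧
    ∃ (ξ : PrimeSpectrum (p'.Fiber S')) (hξ : ξ ∈ Module.support (p'.Fiber S') (FlatCA.fiberMod p' S' N')),
      ξ.asIdeal = FlatCA.fiberIdeal p' q' ∧
      FlatMor.localDim (Module.support (p'.Fiber S') (FlatCA.fiberMod p' S' N')) ⟨ξ, hξ⟩ = n := by
  haveI : Module.Finite S' N' := Module.Finite.equiv hl.equiv
  haveI : Module.Finite (p'.Fiber S') (FlatCA.fiberMod p' S' N') :=
    letI : Algebra S' (p'.Fiber S') := Algebra.TensorProduct.rightAlgebra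
    inferInstanceAs (Module.Finite (p'.Fiber S') ((p'.Fiber S') ⊗[S'] N'))
  haveI : Module.Finite (p.Fiber S) (FlatCA.fiberMod p S N) :=
    letI : Algebra S (p.Fiber S) := Algebra.TensorProduct.rightAlgebra
    inferInstanceAs (Module.Finite (p.Fiber S) ((p.Fiber S) ⊗[S] N))
  obtain ⟨hle, z', hz, hze, hd⟩ := exists_localDim_openEmbedding l hl g h p p' q q' n h1
  refine ⟨le_antisymm ?_ ?_, z', hz, hze, hd⟩
  · rw [← supportDim_eq_topologicalKrullDim, ← hdim, ← supportDim_eq_topologicalKrullDim]
    exact hle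
  · rw [← supportDim_eq_topologicalKrullDim, ← hd]
    refine (iInf_le _ ⟨⊤, trivial⟩).trans ?_
    exact Topology.IsInducing.subtypeVal.topologicalKrullDim_le

end Groth.Agent.FlatDevLoc
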