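import Groth.Agent.FlatDevLoc.Basic

/-! Standard shrinkings of one-step dévissages. -/

universe u

set_option autoImplicit false
set_option backward.isDefEq.respectTransparency false
set_option backward.isDefEq.respectTransparency.types false
attribute [-instance] CategoryTheory.catToReflQuiver

open TensorProduct AlgebraicGeometry CategoryTheory CategoryTheory.Limits

namespace Groth.Agent.FlatDevLoc

theorem away_of_dvd {A T : Type u} [CommRing A] [CommRing T] [Algebra A T] (a b : A) (ha : a ∣ b) (k : ℕ)
    (hb : b ∣ a ^ k) [IsLocalization.Away b T] : IsLocalization.Away a T where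
  map_units := by
    rintro ⟨_, j, rfl⟩
    rw [map_pow]
    exact (isUnit_of_dvd_unit (map_dvd _ ha) (IsLocalization.Away.algebraMap_isUnit (S := T) b)).pow j
  surj x := by
    obtain ⟨⟨y, ⟨_, j, rfl⟩⟩, hxy⟩ := IsLocalization.surj (Submonoid.powers b) x
    obtain ⟨t, ht⟩ := pow_dvd_pow_of_dvd hb j
    refine ⟨(y * t, ⟨(a ^ k) ^ j, k * j, pow_mul a k j⟩), ?_⟩
    rw [map_mul, ← hxy, mul_assoc, ← map_mul]
    exact congrArg (fun z => x * algebraMap A T z) ht
  exists_of_eq {x y} hxy := by
    obtain ⟨⟨_, j, rfl⟩, hj⟩ := IsLocalization.exists_of_eq (M := Submonoid.powers b) hxy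
    obtain ⟨t, ht⟩ := pow_dvd_pow_of_dvd hb j
    refine ⟨⟨(a ^ k) ^ j, k * j, pow_mul a k j⟩, ?_⟩
    show (a ^ k) ^ j * x = (a ^ k) ^ j * y
    rw [ht, mul_comm (b ^ j), mul_assoc, mul_assoc]
    exact congrArg (t * ·) hj

set_option maxHeartbeats 1000000 in
theorem exists_shrinking
    (R S : Type u) [CommRing R] [CommRing S] [Algebra R S] [Algebra.FiniteType R S]
    (N : Type u) [AddCommGroup N] [Module S N] [Module R N] [IsScalarTower R S N] [Module.Finite S N]
    (p : Ideal R) [p.IsPrime] (q : Ideal S) [q.IsPrime] [q.LiesOver p]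
    (C D G : Type u) [CommRing C] [CommRing D] [Algebra S C] [Algebra R C] [IsScalarTower R S C]
    [Algebra R D] [Algebra D C] [IsScalarTower R D C] [AddCommGroup G] [Module C G] [Module S G]
    [IsScalarTower S C G] (n : ℕ)
    (h : FlatCA.IsOneStepDevissage R S N p C D G n)
    (z : Ideal C) [z.IsPrime] (y : Ideal D) [y.IsPrime] [z.LiesOver q] [z.LiesOver y] [y.LiesOver p]
    (h1 : ∃ (ξ : PrimeSpectrum (p.Fiber S)) (hξ : ξ ∈ Module.support (p.Fiber S) (FlatCA.fiberMod p S N)),
      ξ.asIdeal = FlatCA.fiberIdeal p q ∧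
      FlatMor.localDim (Module.support (p.Fiber S) (FlatCA.fiberMod p S N)) ⟨ξ, hξ⟩ = n)
    (h3 : ∀ (z₁ : Ideal C) [z₁.IsPrime], z₁.LiesOver y → z₁ = z)
    (h4 : FlatCA.PurelyTranscendental p y)
    (w : D) (hw : w ∉ y) (u : S) (hue : ∃ e : C, algebraMap S C u * e = algebraMap D C w) :
    ∃ (g : R) (hX : S) (hZ : C), g ∉ p ∧ hX ∉ q ∧ hZ ∉ z ∧ IsUnit (algebraMap S (Localization.Away hX) u) ∧
      ∃ (_ : Algebra (Localization.Away g) (Localization.Away hX)) (_ : IsScalarTower R (Localization.Away g) (Localization.Away hX))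
        (_ : Algebra (Localization.Away g) (Localization.Away hZ)) (_ : IsScalarTower R (Localization.Away g) (Localization.Away hZ))
        (_ : Algebra (Localization.Away g) (Localization.Away (w * algebraMap R D g))) (_ : IsScalarTower R (Localization.Away g) (Localization.Away (w * algebraMap R D g)))
        (_ : Algebra (Localization.Away hX) (Localization.Away hZ)) (_ : IsScalarTower S (Localization.Away hX) (Localization.Away hZ))
        (_ : IsScalarTower (Localization.Away g) (Localization.Away hX) (Localization.Away hZ))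
        (_ : Algebra (Localization.Away (w * algebraMap R D g)) (Localization.Away hZ)) (_ : IsScalarTower D (Localization.Away (w * algebraMap R D g)) (Localization.Away hZ))
        (_ : IsScalarTower (Localization.Away g) (Localization.Away (w * algebraMap R D g)) (Localization.Away hZ))
        (_ : Module (Localization.Away g) (LocalizedModule (Submonoid.powers hX) N)) (_ : IsScalarTower (Localization.Away g) (Localization.Away hX) (LocalizedModule (Submonoid.powers hX) N))
        (_ : Module (Localization.Away hX) (LocalizedModule (Submonoid.powers hZ) G)) (_ : IsScalarTower (Localization.Away hX) (Localization.Away hZ) (LocalizedModule (Submonoid.powers hZ) G))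
        (_ : (Ideal.map (algebraMap R (Localization.Away g)) p).IsPrime) (_ : (Ideal.map (algebraMap D (Localization.Away (w * algebraMap R D g))) y).IsPrime) (_ : (Ideal.map (algebraMap D (Localization.Away (w * algebraMap R D g))) y).LiesOver (Ideal.map (algebraMap R (Localization.Away g)) p)),
        FlatCA.IsOneStepDevissage (Localization.Away g) (Localization.Away hX) (LocalizedModule (Submonoid.powers hX) N) (Ideal.map (algebraMap R (Localization.Away g)) p) (Localization.Away hZ) (Localization.Away (w * algebraMap R D g)) (LocalizedModule (Submonoid.powers hZ) G) n ∧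
        (∃ (ξ : PrimeSpectrum ((Ideal.map (algebraMap R (Localization.Away g)) p).Fiber (Localization.Away hX)))
            (hξ : ξ ∈ Module.support ((Ideal.map (algebraMap R (Localization.Away g)) p).Fiber (Localization.Away hX)) (FlatCA.fiberMod (Ideal.map (algebraMap R (Localization.Away g)) p) (Localization.Away hX) (LocalizedModule (Submonoid.powers hX) N))),
          ξ.asIdeal = FlatCA.fiberIdeal (Ideal.map (algebraMap R (Localization.Away g)) p) (Ideal.map (algebraMap S (Localization.Away hX)) q) ∧
          FlatMor.localDim (Module.support ((Ideal.map (algebraMap R (Localization.Away g)) p).Fiber (Localization.Away hX)) (FlatCA.fiberMod (Ideal.map (algebraMap R (Localization.Away g)) p) (Localization.Away hX) (LocalizedModule (Submonoid.powers hX) N))) ⟨ξ, hξ⟩ = n) ∧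
        (Ideal.map (algebraMap C (Localization.Away hZ)) z).LiesOver (Ideal.map (algebraMap S (Localization.Away hX)) q) ∧ (Ideal.map (algebraMap C (Localization.Away hZ)) z).LiesOver (Ideal.map (algebraMap D (Localization.Away (w * algebraMap R D g))) y) ∧
        (∀ (z₂ : Ideal (Localization.Away hZ)) [z₂.IsPrime], z₂.LiesOver (Ideal.map (algebraMap D (Localization.Away (w * algebraMap R D g))) y) → z₂ = Ideal.map (algebraMap C (Localization.Away hZ)) z) ∧
        FlatCA.PurelyTranscendental (Ideal.map (algebraMap R (Localization.Away g)) p) (Ideal.map (algebraMap D (Localization.Away (w * algebraMap R D g))) y) := by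
  obtain ⟨⟨eNG⟩, hsurj, hfpC, hfinC, hfinG, hsm, hgi, hdim⟩ := h
  obtain ⟨e, he⟩ := hue
  haveI := hfpC
  haveI := hfinC
  haveI := hfinG
  -- the open image of the standard open in the base
  haveI : SmoothOfRelativeDimension n (Spec.map (CommRingCat.ofHom (algebraMap R D))) := hsm
  haveI : Smooth (Spec.map (CommRingCat.ofHom (algebraMap R D))) :=
    SmoothOfRelativeDimension.smooth (n := n) _
  haveI : Algebra.Smooth R D := RingHom.smooth_algebraMap.1
    ((HasRingHomProperty.Spec_iff (P := @Smooth)).1 ‹Smooth (Spec.map (CommRingCat.ofHom (algebraMap R D)))›)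
  have hopen : IsOpen (PrimeSpectrum.comap (algebraMap R D) '' (PrimeSpectrum.basicOpen w : Set (PrimeSpectrum D))) :=
    PrimeSpectrum.isOpenMap_comap_of_hasGoingDown_of_finitePresentation _ (PrimeSpectrum.basicOpen w).isOpen
  have hpmem : (⟨p, inferInstance⟩ : PrimeSpectrum R) ∈
      PrimeSpectrum.comap (algebraMap R D) '' (PrimeSpectrum.basicOpen w : Set (PrimeSpectrum D)) :=
    ⟨⟨y, inferInstance⟩, hw, PrimeSpectrum.ext (Ideal.LiesOver.over (p := p) (P := y)).symm⟩
  obtain ⟨_, ⟨g, rfl⟩, hgp, hsub⟩ :=
    PrimeSpectrum.isTopologicalBasis_basic_opens.exists_subset_of_mem_open hpmem hopen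
  have hgp : g ∉ p := hgp
  -- the elements
  let wg : D := w * algebraMap R D g
  have hwg : wg ∉ y := fun hh => (Ideal.IsPrime.mem_or_mem inferInstance hh).elim hw fun hh' =>
    hgp ((Ideal.LiesOver.over (p := p) (P := y)).symm ▸ hh')
  let c : C := algebraMap D C wg
  have hcz : c ∉ z := fun hh => hwg ((Ideal.LiesOver.over (p := y) (P := z)).symm ▸ hh)
  obtain ⟨s, hs⟩ := hsurj c
  let hX : S := u * (s * algebraMap R S g)
  have hsq : s ∉ q := fun hh => hcz (hs ▸ show algebraMap S C s ∈ z by
    rw [Ideal.LiesOver.over (p := q) (P := z)] at hh; exact hh)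
  have hgq : algebraMap R S g ∉ q := fun hh => hgp ((Ideal.LiesOver.over (p := p) (P := q)).symm ▸ hh)
  have huq : u ∉ q := fun hh => hw ((Ideal.LiesOver.over (p := y) (P := z)).symm ▸ (show algebraMap D C w ∈ z by
    rw [← he]
    exact Ideal.mul_mem_right _ _ (show algebraMap S C u ∈ z by
      rw [Ideal.LiesOver.over (p := q) (P := z)] at hh; exact hh)))
  have hXq : hX ∉ q := fun hh => (Ideal.IsPrime.mem_or_mem inferInstance hh).elim huq fun h' =>
    (Ideal.IsPrime.mem_or_mem inferInstance h').elim hsq hgq
  let hZ : C := algebraMap S C hX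
  have hZz : hZ ∉ z := fun hh => hXq ((Ideal.LiesOver.over (p := q) (P := z)).symm ▸ hh)
  let gC : C := algebraMap R C g
  have hZe : hZ = algebraMap S C u * (c * gC) := by
    simp only [hZ, hX, gC, map_mul, hs, ← IsScalarTower.algebraMap_apply R S C]
  have hc_dvd : c ∣ hZ := ⟨algebraMap S C u * gC, by rw [hZe]; ring⟩
  have hc_eq : c = algebraMap D C w * gC := by
    simp only [c, wg, gC, map_mul, ← IsScalarTower.algebraMap_apply R D C]
  have hZ_dvd : hZ ∣ c ^ 3 := ⟨e * algebraMap D C w * gC, by rw [hZe, hc_eq, ← he]; ring⟩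
  let R' := Localization.Away g
  let S' := Localization.Away hX
  let C' := Localization.Away hZ
  let D' := Localization.Away wg
  have hgS : ∀ x : Submonoid.powers g, IsUnit (algebraMap R S' x) := fun ⟨_, k, hk⟩ => by
    subst hk
    rw [map_pow]
    refine IsUnit.pow k ?_
    rw [IsScalarTower.algebraMap_apply R S S']
    exact isUnit_of_dvd_unit (map_dvd _ ⟨u * s, by simp only [hX]; ring⟩) (IsLocalization.Away.algebraMap_isUnit (S := S') hX)
  have hgC : ∀ x : Submonoid.powers g, IsUnit (algebraMap R C' x) := fun ⟨_, k, hk⟩ => by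
    subst hk
    rw [map_pow]
    refine IsUnit.pow k ?_
    rw [IsScalarTower.algebraMap_apply R C C']
    exact isUnit_of_dvd_unit (map_dvd _ ⟨algebraMap S C u * c, by rw [hZe]; ring⟩) (IsLocalization.Away.algebraMap_isUnit (S := C') hZ)
  have hgD : ∀ x : Submonoid.powers g, IsUnit (algebraMap R D' x) := fun ⟨_, k, hk⟩ => by
    subst hk
    rw [map_pow]
    refine IsUnit.pow k ?_
    rw [IsScalarTower.algebraMap_apply R D D']
    exact isUnit_of_dvd_unit (map_dvd _ ⟨w, mul_comm _ _⟩) (IsLocalization.Away.algebraMap_isUnit (S := D') wg)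
  letI aRS : Algebra R' S' := (IsLocalization.lift hgS : R' →+* S').toAlgebra
  letI aRC : Algebra R' C' := (IsLocalization.lift hgC : R' →+* C').toAlgebra
  letI aRD : Algebra R' D' := (IsLocalization.lift hgD : R' →+* D').toAlgebra
  haveI tRS : IsScalarTower R R' S' := IsScalarTower.of_algebraMap_eq fun r => (IsLocalization.lift_eq hgS r).symm
  haveI tRC : IsScalarTower R R' C' := IsScalarTower.of_algebraMap_eq fun r => (IsLocalization.lift_eq hgC r).symm
  haveI tRD : IsScalarTower R R' D' := IsScalarTower.of_algebraMap_eq fun r => (IsLocalization.lift_eq hgD r).symm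
  have hSC : ∀ x : Submonoid.powers hX, IsUnit (algebraMap S C' x) := fun ⟨_, k, hk⟩ => by
    subst hk
    rw [map_pow, IsScalarTower.algebraMap_apply S C C']
    exact (IsLocalization.Away.algebraMap_isUnit (S := C') hZ).pow k
  have hDC : ∀ x : Submonoid.powers wg, IsUnit (algebraMap D C' x) := fun ⟨_, k, hk⟩ => by
    subst hk
    rw [map_pow, IsScalarTower.algebraMap_apply D C C']
    exact (isUnit_of_dvd_unit (map_dvd _ hc_dvd) (IsLocalization.Away.algebraMap_isUnit (S := C') hZ)).pow k
  letI aSC : Algebra S' C' := (IsLocalization.lift hSC : S' →+* C').toAlgebra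
  letI aDC : Algebra D' C' := (IsLocalization.lift hDC : D' →+* C').toAlgebra
  haveI tSC : IsScalarTower S S' C' := IsScalarTower.of_algebraMap_eq fun r => (IsLocalization.lift_eq hSC r).symm
  haveI tDC : IsScalarTower D D' C' := IsScalarTower.of_algebraMap_eq fun r => (IsLocalization.lift_eq hDC r).symm
  haveI tRSC : IsScalarTower R' S' C' := IsScalarTower.of_algebraMap_eq' (IsLocalization.ringHom_ext (Submonoid.powers g) (by
    ext r
    simp only [RingHom.coe_comp, Function.comp_apply, ← IsScalarTower.algebraMap_apply]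
    rw [IsScalarTower.algebraMap_apply R S S', ← IsScalarTower.algebraMap_apply S S' C',
      IsScalarTower.algebraMap_apply S C C', ← IsScalarTower.algebraMap_apply R S C, ← IsScalarTower.algebraMap_apply]))
  haveI tRDC : IsScalarTower R' D' C' := IsScalarTower.of_algebraMap_eq' (IsLocalization.ringHom_ext (Submonoid.powers g) (by
    ext r
    simp only [RingHom.coe_comp, Function.comp_apply, ← IsScalarTower.algebraMap_apply]
    rw [IsScalarTower.algebraMap_apply R D D', ← IsScalarTower.algebraMap_apply D D' C',
      IsScalarTower.algebraMap_apply D C C', ← IsScalarTower.algebraMap_apply R D C, ← IsScalarTower.algebraMap_apply]))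
  let N' := LocalizedModule (Submonoid.powers hX) N
  let G' := LocalizedModule (Submonoid.powers hZ) G
  letI mRN : Module R' N' := Module.compHom N' (algebraMap R' S')
  haveI tRN : IsScalarTower R' S' N' := IsScalarTower.of_algebraMap_smul fun _ _ => rfl
  letI mSG : Module S' G' := Module.compHom G' (algebraMap S' C')
  haveI tSG : IsScalarTower S' C' G' := IsScalarTower.of_algebraMap_smul fun _ _ => rfl
  -- primes
  let p' : Ideal R' := p.map (algebraMap R R')
  let q' : Ideal S' := q.map (algebraMap S S')
  let y' : Ideal D' := y.map (algebraMap D D')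
  let z' : Ideal C' := z.map (algebraMap C C')
  have dp : Disjoint (Submonoid.powers g : Set R) p := (Ideal.disjoint_powers_iff_notMem g (Ideal.IsPrime.isRadical inferInstance)).2 hgp
  have dq : Disjoint (Submonoid.powers hX : Set S) q := (Ideal.disjoint_powers_iff_notMem hX (Ideal.IsPrime.isRadical inferInstance)).2 hXq
  have dy : Disjoint (Submonoid.powers wg : Set D) y := (Ideal.disjoint_powers_iff_notMem wg (Ideal.IsPrime.isRadical inferInstance)).2 hwg
  have dz : Disjoint (Submonoid.powers hZ : Set C) z := (Ideal.disjoint_powers_iff_notMem hZ (Ideal.IsPrime.isRadical inferInstance)).2 hZz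
  haveI hp'p : p'.IsPrime := IsLocalization.isPrime_of_isPrime_disjoint _ R' p inferInstance dp
  haveI hq'p : q'.IsPrime := IsLocalization.isPrime_of_isPrime_disjoint _ S' q inferInstance dq
  haveI hy'p : y'.IsPrime := IsLocalization.isPrime_of_isPrime_disjoint _ D' y inferInstance dy
  haveI hz'p : z'.IsPrime := IsLocalization.isPrime_of_isPrime_disjoint _ C' z inferInstance dz
  haveI op : p'.LiesOver p := ⟨(IsLocalization.comap_map_of_isPrime_disjoint _ R' inferInstance dp).symm⟩
  haveI oq : q'.LiesOver q := ⟨(IsLocalization.comap_map_of_isPrime_disjoint _ S' inferInstance dq).symm⟩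
  haveI oy : y'.LiesOver y := ⟨(IsLocalization.comap_map_of_isPrime_disjoint _ D' inferInstance dy).symm⟩
  haveI oz : z'.LiesOver z := ⟨(IsLocalization.comap_map_of_isPrime_disjoint _ C' inferInstance dz).symm⟩
  have inj : Function.Injective (PrimeSpectrum.comap (algebraMap R R')) :=
    (PrimeSpectrum.localization_away_isOpenEmbedding R' g).injective
  haveI oqp : q'.LiesOver p' := ⟨congrArg PrimeSpectrum.asIdeal (inj (a₁ := ⟨p', hp'p⟩)
    (a₂ := PrimeSpectrum.comap (algebraMap R' S') ⟨q', hq'p⟩) (PrimeSpectrum.ext (by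
      show p'.comap (algebraMap R R') = (q'.comap (algebraMap R' S')).comap (algebraMap R R')
      rw [Ideal.comap_comap, ← IsScalarTower.algebraMap_eq, IsScalarTower.algebraMap_eq R S S', ← Ideal.comap_comap]
      exact op.over.symm.trans ((Ideal.LiesOver.over (p := p) (P := q)).trans (congrArg _ oq.over)))))⟩
  haveI oyp : y'.LiesOver p' := ⟨congrArg PrimeSpectrum.asIdeal (inj (a₁ := ⟨p', hp'p⟩)
    (a₂ := PrimeSpectrum.comap (algebraMap R' D') ⟨y', hy'p⟩) (PrimeSpectrum.ext (by
      show p'.comap (algebraMap R R') = (y'.comap (algebraMap R' D')).comap (algebraMap R R')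
      rw [Ideal.comap_comap, ← IsScalarTower.algebraMap_eq, IsScalarTower.algebraMap_eq R D D', ← Ideal.comap_comap]
      exact op.over.symm.trans ((Ideal.LiesOver.over (p := p) (P := y)).trans (congrArg _ oy.over)))))⟩
  have ozq : z'.LiesOver q' := ⟨congrArg PrimeSpectrum.asIdeal
    ((PrimeSpectrum.localization_away_isOpenEmbedding S' hX).injective (a₁ := ⟨q', hq'p⟩)
    (a₂ := PrimeSpectrum.comap (algebraMap S' C') ⟨z', hz'p⟩) (PrimeSpectrum.ext (by
      show q'.comap (algebraMap S S') = (z'.comap (algebraMap S' C')).comap (algebraMap S S')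
      rw [Ideal.comap_comap, ← IsScalarTower.algebraMap_eq, IsScalarTower.algebraMap_eq S C C', ← Ideal.comap_comap]
      exact oq.over.symm.trans ((Ideal.LiesOver.over (p := q) (P := z)).trans (congrArg _ oz.over)))))⟩
  have ozy : z'.LiesOver y' := ⟨congrArg PrimeSpectrum.asIdeal
    ((PrimeSpectrum.localization_away_isOpenEmbedding D' wg).injective (a₁ := ⟨y', hy'p⟩)
    (a₂ := PrimeSpectrum.comap (algebraMap D' C') ⟨z', hz'p⟩) (PrimeSpectrum.ext (by
      show y'.comap (algebraMap D D') = (z'.comap (algebraMap D' C')).comap (algebraMap D D')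
      rw [Ideal.comap_comap, ← IsScalarTower.algebraMap_eq, IsScalarTower.algebraMap_eq D C C', ← Ideal.comap_comap]
      exact oy.over.symm.trans ((Ideal.LiesOver.over (p := y) (P := z)).trans (congrArg _ oz.over)))))⟩
  -- pushouts
  haveI hpS : Algebra.IsPushout S S' C C' := by
    haveI : IsLocalization (Algebra.algebraMapSubmonoid C (Submonoid.powers hX)) C' := by
      rw [show Algebra.algebraMapSubmonoid C (Submonoid.powers hX) = Submonoid.powers hZ from Submonoid.map_powers _ _]
      infer_instance
    exact (Algebra.isPushout_of_isLocalization (Submonoid.powers hX) _ _ _).symm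
  haveI hpD : Algebra.IsPushout D D' C C' := by
    haveI : IsLocalization.Away c C' := Groth.Agent.FlatDevLoc.away_of_dvd c hZ hc_dvd 3 hZ_dvd
    haveI : IsLocalization (Algebra.algebraMapSubmonoid C (Submonoid.powers wg)) C' := by
      rw [show Algebra.algebraMapSubmonoid C (Submonoid.powers wg) = Submonoid.powers c from Submonoid.map_powers _ _]
      assumption
    exact (Algebra.isPushout_of_isLocalization (Submonoid.powers wg) _ _ _).symm
  haveI hpR : Algebra.IsPushout R R' D' D' := by
    haveI : IsLocalization (Algebra.algebraMapSubmonoid D' (Submonoid.powers g)) D' := by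
      refine IsLocalization.self ?_
      rintro x ⟨a, ha, rfl⟩
      exact hgD ⟨a, ha⟩
    exact (Algebra.isPushout_of_isLocalization (Submonoid.powers g) _ _ _).symm
  let l : N →ₗ[S] N' := LocalizedModule.mkLinearMap _ N
  have hl : IsBaseChange S' l := (isLocalizedModule_iff_isBaseChange (Submonoid.powers hX) S' _).1 inferInstance
  obtain ⟨hdim', hξ'⟩ := Groth.Agent.FlatDevLoc.exists_support_openEmbedding l hl g hX p p' q q' n hdim h1
  -- smoothness and fibres of the new smooth algebra
  haveI : IsOpenImmersion (Spec.map (CommRingCat.ofHom (algebraMap D D'))) :=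
    IsOpenImmersion.of_isLocalization wg
  have hcompD : Spec.map (CommRingCat.ofHom (algebraMap R D')) =
      Spec.map (CommRingCat.ofHom (algebraMap D D')) ≫ Spec.map (CommRingCat.ofHom (algebraMap R D)) := by
    rw [← Spec.map_comp, ← CommRingCat.ofHom_comp, ← IsScalarTower.algebraMap_eq]
  haveI : Algebra.IsPushout R D' R' D' := Algebra.IsPushout.symm inferInstance
  have hpb := isPullback_SpecMap_of_isPushout _ _ _ _
      (CommRingCat.isPushout_iff_isPushout.mpr (inferInstance : Algebra.IsPushout R D' R' D'))
  refine ⟨g, hX, hZ, hgp, hXq, hZz, ?_, aRS, tRS, aRC, tRC, aRD, tRD, aSC, tSC, tRSC, aDC, tDC, tRDC, mRN, tRN,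
    mSG, tSG, hp'p, hy'p, oyp, ⟨?_, ?_, ?_, ?_, ?_, ?_, ?_, hdim'⟩, hξ', ozq, ozy, ?_, ?_⟩
  · exact isUnit_of_dvd_unit (map_dvd _ ⟨s * algebraMap R S g, rfl⟩) (IsLocalization.Away.algebraMap_isUnit (S := S') hX)
  · -- the module
    haveI : IsScalarTower S S' G' := IsScalarTower.of_algebraMap_smul fun a m => by
      show algebraMap S' C' (algebraMap S S' a) • m = a • m
      rw [← IsScalarTower.algebraMap_apply, IsScalarTower.algebraMap_smul]
    let lG : G →ₗ[C] G' := LocalizedModule.mkLinearMap _ G
    haveI : IsLocalizedModule (Submonoid.powers hX) (lG.restrictScalars S) := by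
      refine Groth.Agent.DevEtale.isLocalizedModule_restrict _ (Submonoid.powers hZ) ?_ ?_ lG
      · rintro _ ⟨k, rfl⟩
        exact ⟨k, (map_pow (algebraMap S C) hX k).symm⟩
      · rintro _ ⟨k, rfl⟩
        exact ⟨1, hX ^ k, ⟨k, rfl⟩, by rw [mul_one, map_pow]⟩
    haveI : IsLocalizedModule (Submonoid.powers hX) ((lG.restrictScalars S).comp eNG.toLinearMap) :=
      IsLocalizedModule.of_linearEquiv_right _ _ eNG
    exact ⟨(IsLocalizedModule.linearEquiv (Submonoid.powers hX) l
      ((lG.restrictScalars S).comp eNG.toLinearMap)).extendScalarsOfIsLocalization (Submonoid.powers hX) S'⟩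
  · intro x
    obtain ⟨t, rfl⟩ := (Algebra.IsPushout.equiv S S' C C').surjective x
    induction t using TensorProduct.induction_on with
    | zero => exact ⟨0, by rw [map_zero, map_zero]⟩
    | tmul a b =>
      obtain ⟨s', rfl⟩ := hsurj b
      refine ⟨a * algebraMap S S' s', ?_⟩
      rw [Algebra.IsPushout.equiv_tmul, map_mul, ← IsScalarTower.algebraMap_apply S S' C',
        ← IsScalarTower.algebraMap_apply S C C']
    | add x y hx hy =>
      obtain ⟨a, ha⟩ := hx
      obtain ⟨b, hb⟩ := hy
      exact ⟨a + b, by rw [map_add, map_add, ha, hb]⟩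
  · exact Algebra.FinitePresentation.equiv (Algebra.IsPushout.equiv S S' C C')
  · exact Module.Finite.equiv (Algebra.IsPushout.equiv D D' C C').toLinearEquiv
  · exact Module.Finite.equiv ((isLocalizedModule_iff_isBaseChange (Submonoid.powers hZ) C'
      (LocalizedModule.mkLinearMap _ G)).1 inferInstance).equiv
  · haveI : SmoothOfRelativeDimension n (Spec.map (CommRingCat.ofHom (algebraMap R D))) := hsm
    haveI := smoothOfRelativeDimension_isStableUnderBaseChange (n := n)
    refine MorphismProperty.of_isPullback (P := @SmoothOfRelativeDimension n) hpb.flip.flip ?_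
    rw [hcompD]
    exact (Nat.zero_add n) ▸ (inferInstance : SmoothOfRelativeDimension (0 + n)
      (Spec.map (CommRingCat.ofHom (algebraMap D D')) ≫ Spec.map (CommRingCat.ofHom (algebraMap R D))))
  · haveI : GeometricallyIrreducible (Spec.map (CommRingCat.ofHom (algebraMap R D))) := hgi
    -- restrict to the image
    let ι := Spec.map (CommRingCat.ofHom (algebraMap R R'))
    haveI : IsOpenImmersion ι := IsOpenImmersion.of_isLocalization g
    let f := Spec.map (CommRingCat.ofHom (algebraMap R D))
    let j : Spec (CommRingCat.of D') ⟶ pullback f ι := pullback.lift (Spec.map (CommRingCat.ofHom (algebraMap D D')))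
      (Spec.map (CommRingCat.ofHom (algebraMap R' D'))) (by
        rw [← Spec.map_comp, ← Spec.map_comp, ← CommRingCat.ofHom_comp, ← CommRingCat.ofHom_comp,
          ← IsScalarTower.algebraMap_eq, ← IsScalarTower.algebraMap_eq])
    haveI : IsOpenImmersion (j ≫ pullback.fst f ι) := by
      rw [pullback.lift_fst]; infer_instance
    haveI : IsOpenImmersion j := IsOpenImmersion.of_comp j (pullback.fst f ι)
    haveI : Surjective (j ≫ pullback.snd f ι) := by
      rw [pullback.lift_snd]
      refine ⟨fun r => ?_⟩
      have hr : g ∉ (PrimeSpectrum.comap (algebraMap R R') r).asIdeal := fun hh =>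
        r.isPrime.ne_top (Ideal.eq_top_of_isUnit_mem _ hh (IsLocalization.Away.algebraMap_isUnit g))
      obtain ⟨P, hwP, hPr⟩ := hsub hr
      have hgP : algebraMap R D g ∉ P.asIdeal := fun hh => hr (by rw [← hPr]; exact hh)
      have hP : wg ∉ P.asIdeal := fun hh => (P.isPrime.mem_or_mem hh).elim hwP hgP
      have hd := (Ideal.disjoint_powers_iff_notMem wg P.isPrime.isRadical).2 hP
      refine ⟨(⟨P.asIdeal.map (algebraMap D D'), IsLocalization.isPrime_of_isPrime_disjoint _ D' _ P.isPrime hd⟩ : PrimeSpectrum D'),
        inj (PrimeSpectrum.ext ?_)⟩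
      show ((P.asIdeal.map (algebraMap D D')).comap (algebraMap R' D')).comap (algebraMap R R') = _
      rw [Ideal.comap_comap, ← IsScalarTower.algebraMap_eq, IsScalarTower.algebraMap_eq R D D', ← Ideal.comap_comap,
        show (P.asIdeal.map (algebraMap D D')).comap (algebraMap D D') = P.asIdeal from
          IsLocalization.comap_map_of_isPrime_disjoint _ D' P.isPrime hd, ← hPr]
      rfl
    have : GeometricallyIrreducible (j ≫ pullback.snd f ι) := inferInstance
    rw [pullback.lift_snd] at this
    exact this
  · intro z₂ _ hz₂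
    haveI : (z₂.comap (algebraMap C C')).LiesOver y := ⟨by
      show y = (z₂.comap (algebraMap C C')).comap (algebraMap D C)
      rw [Ideal.comap_comap, ← IsScalarTower.algebraMap_eq, IsScalarTower.algebraMap_eq D D' C', ← Ideal.comap_comap]
      exact oy.over.trans (congrArg _ hz₂.over)⟩
    have e2 := h3 (z₂.comap (algebraMap C C')) inferInstance
    rw [← IsLocalization.map_comap (Submonoid.powers hZ) C' z₂]
    exact congrArg (Ideal.map _) e2
  · exact Groth.Agent.FlatDevLoc.purelyTranscendental_of_bijective p p'
      (Groth.Agent.FlatDevLoc.residueField_bijectiveₐ_of_isLocalization (Submonoid.powers g) p p') y y'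
      (Groth.Agent.FlatDevLoc.residueField_bijective_of_isLocalization (Submonoid.powers wg) y y') h4

end Groth.Agent.FlatDevLoc
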