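import Groth.Agent.FlatDevLoc.Alg

/-! Maps and points at one step of a shrinking. -/

universe u

set_option autoImplicit false
set_option backward.isDefEq.respectTransparency false
set_option backward.isDefEq.respectTransparency.types false
attribute [-instance] CategoryTheory.catToReflQuiver

open TensorProduct AlgebraicGeometry CategoryTheory CategoryTheory.Limits

namespace Groth.Agent.FlatDevLoc

theorem isPrime_map_away {T T' : Type u} [CommRing T] [CommRing T'] [Algebra T T'] (x : T)
    [IsLocalization.Away x T'] (y : Ideal T) [y.IsPrime] (hx : x ∉ y) :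
    (y.map (algebraMap T T')).IsPrime ∧ (y.map (algebraMap T T')).LiesOver y :=
  have hd := (Ideal.disjoint_powers_iff_notMem x (Ideal.IsPrime.isRadical inferInstance)).2 hx
  ⟨IsLocalization.isPrime_of_isPrime_disjoint _ T' y inferInstance hd,
    ⟨(IsLocalization.comap_map_of_isPrime_disjoint _ T' inferInstance hd).symm⟩⟩

theorem eq_of_comap_away {T T' : Type u} [CommRing T] [CommRing T'] [Algebra T T'] (x : T)
    [IsLocalization.Away x T'] (P Q : Ideal T') (h : P.comap (algebraMap T T') = Q.comap (algebraMap T T')) :
    P = Q := by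
  exact ((IsLocalization.map_comap (Submonoid.powers x) T' P).symm.trans (congrArg (Ideal.map _) h)).trans
    (IsLocalization.map_comap (Submonoid.powers x) T' Q)

variable {R R' : Type u} [CommRing R] [CommRing R'] [Algebra R R'] (g : R) [IsLocalization.Away g R']

section

variable {T T₂ T' T₂' : Type u} [CommRing T] [CommRing T₂] [CommRing T'] [CommRing T₂']
  [Algebra R T] [Algebra R T₂] [Algebra T T'] [Algebra T₂ T₂'] [Algebra R T'] [Algebra R T₂']
  [IsScalarTower R T T'] [IsScalarTower R T₂ T₂'] [Algebra R' T'] [Algebra R' T₂']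
  [IsScalarTower R R' T'] [IsScalarTower R R' T₂'] (φ : T →ₐ[R] T₂) (x : T) (x₂ : T₂)
  [IsLocalization.Away x T'] [IsLocalization.Away x₂ T₂'] (h : φ x = x₂)

include h in
theorem isUnit_mapAway : IsUnit (((algebraMap T₂ T₂').comp φ.toRingHom) x) := by
  show IsUnit (algebraMap T₂ T₂' (φ x))
  rw [h]
  exact IsLocalization.Away.algebraMap_isUnit x₂

/-- The map between standard opens, over the standard open of the base. -/
noncomputable def mapAway : T' →ₐ[R'] T₂' :=
  { (IsLocalization.Away.lift x (isUnit_mapAway φ x x₂ h) : T' →+* T₂') with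
    commutes' := by
      intro r
      refine RingHom.congr_fun (?_ : RingHom.comp (IsLocalization.Away.lift x (isUnit_mapAway φ x x₂ h)) (algebraMap R' T') = algebraMap R' T₂') r
      refine IsLocalization.ringHom_ext (Submonoid.powers g) (RingHom.ext fun r => ?_)
      simp only [RingHom.coe_comp, Function.comp_apply, ← IsScalarTower.algebraMap_apply]
      rw [IsScalarTower.algebraMap_apply R T T', IsLocalization.Away.lift_eq]
      show algebraMap T₂ T₂' (φ (algebraMap R T r)) = _
      rw [φ.commutes, ← IsScalarTower.algebraMap_apply] }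

theorem mapAway_algebraMap (t : T) :
    mapAway (R' := R') (T' := T') (T₂' := T₂') g φ x x₂ h (algebraMap T T' t) = algebraMap T₂ T₂' (φ t) :=
  IsLocalization.Away.lift_eq x (isUnit_mapAway φ x x₂ h) t

end

section

variable {D D' : Type u} [CommRing D] [CommRing D'] [Algebra R D] [Algebra D D'] [Algebra R D'] [Algebra R' D']
  [IsScalarTower R R' D'] [IsScalarTower R D D']

include g in
theorem isPushout_self_away : Algebra.IsPushout R R' D' D' := by
  haveI : IsLocalization (Algebra.algebraMapSubmonoid D' (Submonoid.powers g)) D' := by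
    refine IsLocalization.self ?_
    rintro x ⟨_, ⟨k, rfl⟩, rfl⟩
    show IsUnit (algebraMap R D' (g ^ k))
    rw [map_pow, IsScalarTower.algebraMap_apply R R' D']
    exact ((IsLocalization.Away.algebraMap_isUnit g).map _).pow k
  exact (Algebra.isPushout_of_isLocalization (Submonoid.powers g) _ _ _).symm

include g in
theorem smoothRelDim_away (n : ℕ) (h : FlatCA.SmoothRelDim n R D) (e : D) [IsLocalization.Away e D'] :
    FlatCA.SmoothRelDim n R' D' := by
  haveI := isPushout_self_away (R' := R') (D' := D') g
  haveI : IsOpenImmersion (Spec.map (CommRingCat.ofHom (algebraMap D D'))) :=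
    IsOpenImmersion.of_isLocalization e
  have hcompD : Spec.map (CommRingCat.ofHom (algebraMap R D')) =
      Spec.map (CommRingCat.ofHom (algebraMap D D')) ≫ Spec.map (CommRingCat.ofHom (algebraMap R D)) := by
    rw [← Spec.map_comp, ← CommRingCat.ofHom_comp, ← IsScalarTower.algebraMap_eq]
  haveI : Algebra.IsPushout R D' R' D' := Algebra.IsPushout.symm inferInstance
  have hpb := isPullback_SpecMap_of_isPushout _ _ _ _
    (CommRingCat.isPushout_iff_isPushout.mpr (inferInstance : Algebra.IsPushout R D' R' D'))
  haveI : SmoothOfRelativeDimension n (Spec.map (CommRingCat.ofHom (algebraMap R D))) := h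
  haveI := smoothOfRelativeDimension_isStableUnderBaseChange (n := n)
  refine MorphismProperty.of_isPullback (P := @SmoothOfRelativeDimension n) hpb.flip.flip ?_
  rw [hcompD]
  exact (Nat.zero_add n) ▸ (inferInstance : SmoothOfRelativeDimension (0 + n)
    (Spec.map (CommRingCat.ofHom (algebraMap D D')) ≫ Spec.map (CommRingCat.ofHom (algebraMap R D))))

include g in
theorem pureTrans_away (e : D) [IsLocalization.Away e D'] (p : Ideal R) [p.IsPrime] (p' : Ideal R') [p'.IsPrime]
    [p'.LiesOver p] (y : Ideal D) [y.IsPrime] [y.LiesOver p] (y' : Ideal D') [y'.IsPrime] [y'.LiesOver y]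
    [y'.LiesOver p'] (h : FlatCA.PurelyTranscendental p y) : FlatCA.PurelyTranscendental p' y' :=
  purelyTranscendental_of_bijective p p' (residueField_bijectiveₐ_of_isLocalization (Submonoid.powers g) p p') y y'
    (residueField_bijective_of_isLocalization (Submonoid.powers e) y y') h

end

end Groth.Agent.FlatDevLoc
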