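import Groth.Agent.FlatDevLoc.Basic
import Groth.Agent.FlatDevPad.Alg
import Groth.Agent.DevEtale.Loci

/-! Maps between standard opens. -/

universe u

set_option autoImplicit false
set_option backward.isDefEq.respectTransparency false
set_option backward.isDefEq.respectTransparency.types false
attribute [-instance] CategoryTheory.catToReflQuiver

open TensorProduct AlgebraicGeometry CategoryTheory CategoryTheory.Limits

namespace Groth.Agent.FlatDevLoc

variable {B A B' A' : Type u} [CommRing B] [CommRing A] [CommRing B'] [CommRing A']
  [Algebra B A] [Algebra B B'] [Algebra A A'] (b : B) (a : A) (hab : algebraMap B A b = a)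
  [IsLocalization.Away b B'] [IsLocalization.Away a A']
  (φ : B' →+* A') (hφ : ∀ x, φ (algebraMap B B' x) = algebraMap A A' (algebraMap B A x))

include hab hφ in
theorem isPushout_away :
    ∃ (_ : Algebra B' A') (_ : Algebra B A') (_ : IsScalarTower B A A') (_ : IsScalarTower B B' A'),
      algebraMap B' A' = φ ∧ Algebra.IsPushout B B' A A' := by
  letI a1 : Algebra B' A' := φ.toAlgebra
  letI a2 : Algebra B A' := ((algebraMap A A').comp (algebraMap B A)).toAlgebra
  haveI t1 : IsScalarTower B A A' := IsScalarTower.of_algebraMap_eq' rfl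
  haveI t2 : IsScalarTower B B' A' := IsScalarTower.of_algebraMap_eq fun x => (hφ x).symm
  haveI : IsLocalization (Algebra.algebraMapSubmonoid A (Submonoid.powers b)) A' := by
    rw [show Algebra.algebraMapSubmonoid A (Submonoid.powers b) = Submonoid.powers a from by
      rw [← hab]; exact Submonoid.map_powers _ _]
    infer_instance
  exact ⟨a1, a2, t1, t2, rfl, (Algebra.isPushout_of_isLocalization (Submonoid.powers b) _ _ _).symm⟩

include hab hφ in
theorem finite_away [Module.Finite B A] : φ.Finite := by
  obtain ⟨_, _, _, _, e, hpo⟩ := isPushout_away b a hab φ hφ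
  rw [← e]
  exact RingHom.finite_algebraMap.2 (Module.Finite.equiv (Algebra.IsPushout.equiv B B' A A').toLinearEquiv)

include hab hφ in
theorem fp_away [Algebra.FinitePresentation B A] : φ.FinitePresentation := by
  obtain ⟨_, _, _, _, e, hpo⟩ := isPushout_away b a hab φ hφ
  rw [← e]
  exact RingHom.finitePresentation_algebraMap.2 (Algebra.FinitePresentation.equiv (Algebra.IsPushout.equiv B B' A A'))

include hab hφ in
theorem surjective_away (h : Function.Surjective (algebraMap B A)) : Function.Surjective φ := by
  intro x
  obtain ⟨⟨y, ⟨_, k, rfl⟩⟩, hy⟩ := IsLocalization.surj (Submonoid.powers a) x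
  obtain ⟨y, rfl⟩ := h y
  refine ⟨IsLocalization.mk' B' y (⟨b ^ k, k, rfl⟩ : Submonoid.powers b), ?_⟩
  have hu : IsUnit (algebraMap A A' (a ^ k)) := by
    rw [map_pow]
    exact (IsLocalization.Away.algebraMap_isUnit a).pow k
  apply hu.mul_left_injective
  show φ _ * algebraMap A A' (a ^ k) = x * algebraMap A A' (a ^ k)
  rw [hy, show algebraMap A A' (a ^ k) = φ (algebraMap B B' (b ^ k)) by rw [hφ, map_pow _ b, hab],
    ← map_mul, IsLocalization.mk'_spec, hφ]

include hab hφ in
/-- A localized module over the new ring, as a base change. -/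
theorem isBaseChange_away {M M' : Type u} [AddCommGroup M] [Module A M] [Module B M] [IsScalarTower B A M]
    [AddCommGroup M'] [Module A M'] [Module A' M'] [IsScalarTower A A' M']
    (g : M →ₗ[A] M') [IsLocalizedModule (Submonoid.powers a) g] :
    letI : Module B' M' := Module.compHom M' φ
    letI : Module B M' := Module.compHom M' (algebraMap B B')
    haveI : IsScalarTower B B' M' := IsScalarTower.of_algebraMap_smul fun _ _ => rfl
    ∃ l : M →ₗ[B] M', IsBaseChange B' l ∧ ∀ m, l m = g m := by
  letI : Module B' M' := Module.compHom M' φ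
  letI : Module B M' := Module.compHom M' (algebraMap B B')
  haveI : IsScalarTower B B' M' := IsScalarTower.of_algebraMap_smul fun _ _ => rfl
  haveI : IsScalarTower B A M' := IsScalarTower.of_algebraMap_smul fun x m => by
    show _ = φ (algebraMap B B' x) • m
    rw [hφ]
    exact (IsScalarTower.algebraMap_smul A' _ m).symm
  haveI : IsLocalizedModule (Submonoid.powers b) (g.restrictScalars B) := by
    refine Groth.Agent.DevEtale.isLocalizedModule_restrict _ (Submonoid.powers a) ?_ ?_ g
    · rintro _ ⟨k, rfl⟩
      exact ⟨k, by rw [← hab]; exact (map_pow (algebraMap B A) b k).symm⟩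
    · rintro _ ⟨k, rfl⟩
      exact ⟨1, b ^ k, ⟨k, rfl⟩, by rw [mul_one, map_pow, hab]⟩
  exact ⟨g.restrictScalars B, (isLocalizedModule_iff_isBaseChange (Submonoid.powers b) B' _).1 inferInstance,
    fun _ => rfl⟩

section fibres

variable {R D : Type u} [CommRing R] [CommRing D] [Algebra R D]

/-- A standard open of a smooth algebra with irreducible fibres, over a base open inside its image. -/
theorem smooth_geomIrred_away [Algebra.Smooth R D] (hGI : FlatCA.GeomIrredFibres R D) (g : R) (w : D) (e : D)
    (he : e = w * algebraMap R D g)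
    (hsub : ∀ r : PrimeSpectrum R, g ∉ r.asIdeal → ∃ P : PrimeSpectrum D, w ∉ P.asIdeal ∧
      PrimeSpectrum.comap (algebraMap R D) P = r)
    [Algebra (Localization.Away g) (Localization.Away e)] [IsScalarTower R (Localization.Away g) (Localization.Away e)] :
    Algebra.Smooth (Localization.Away g) (Localization.Away e) ∧
      FlatCA.GeomIrredFibres (Localization.Away g) (Localization.Away e) := by
  let R' := Localization.Away g
  let D' := Localization.Away e
  haveI : Algebra.IsPushout R R' D' D' := by
    haveI : IsLocalization (Algebra.algebraMapSubmonoid D' (Submonoid.powers g)) D' := by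
      refine IsLocalization.self ?_
      rintro x ⟨_, ⟨k, rfl⟩, rfl⟩
      show IsUnit (algebraMap R D' (g ^ k))
      rw [map_pow, IsScalarTower.algebraMap_apply R R' D']
      exact ((IsLocalization.Away.algebraMap_isUnit g).map _).pow k
    exact (Algebra.isPushout_of_isLocalization (Submonoid.powers g) _ _ _).symm
  refine ⟨?_, ?_⟩
  · haveI : Algebra.Smooth D D' := Algebra.Smooth.of_isLocalization_Away e
    haveI : Algebra.Smooth R D' := Algebra.Smooth.comp R D D'
    exact Algebra.Smooth.of_equiv (Algebra.IsPushout.equiv R R' D' D')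
  · haveI : GeometricallyIrreducible (Spec.map (CommRingCat.ofHom (algebraMap R D))) := hGI
    let ι := Spec.map (CommRingCat.ofHom (algebraMap R R'))
    haveI : IsOpenImmersion ι := IsOpenImmersion.of_isLocalization g
    haveI : IsOpenImmersion (Spec.map (CommRingCat.ofHom (algebraMap D D'))) :=
      IsOpenImmersion.of_isLocalization e
    let f := Spec.map (CommRingCat.ofHom (algebraMap R D))
    let j : Spec (CommRingCat.of D') ⟶ pullback f ι := pullback.lift (Spec.map (CommRingCat.ofHom (algebraMap D D')))
      (Spec.map (CommRingCat.ofHom (algebraMap R' D'))) (by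
        rw [← Spec.map_comp, ← Spec.map_comp, ← CommRingCat.ofHom_comp, ← CommRingCat.ofHom_comp,
          ← IsScalarTower.algebraMap_eq, ← IsScalarTower.algebraMap_eq])
    haveI : IsOpenImmersion (j ≫ pullback.fst f ι) := by
      rw [pullback.lift_fst]; infer_instance
    haveI : IsOpenImmersion j := IsOpenImmersion.of_comp j (pullback.fst f ι)
    haveI : Surjective (j ≫ pullback.snd f ι) := by
      rw [pullback.lift_snd]
      refine ⟨fun r => ?_⟩
      have hr : g ∉ (PrimeSpectrum.comap (algebraMap R R') r).asIdeal := fun hh =>
        r.isPrime.ne_top (Ideal.eq_top_of_isUnit_mem _ hh (IsLocalization.Away.algebraMap_isUnit g))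
      obtain ⟨P, hwP, hPr⟩ := hsub _ hr
      have hgP : algebraMap R D g ∉ P.asIdeal := fun hh => hr (by rw [← hPr]; exact hh)
      have hP : e ∉ P.asIdeal := fun hh => by
        rw [he] at hh
        exact (P.isPrime.mem_or_mem hh).elim hwP hgP
      have hd := (Ideal.disjoint_powers_iff_notMem e P.isPrime.isRadical).2 hP
      refine ⟨(⟨P.asIdeal.map (algebraMap D D'), IsLocalization.isPrime_of_isPrime_disjoint _ D' _ P.isPrime hd⟩ : PrimeSpectrum D'),
        (PrimeSpectrum.localization_away_isOpenEmbedding R' g).injective (PrimeSpectrum.ext ?_)⟩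
      show ((P.asIdeal.map (algebraMap D D')).comap (algebraMap R' D')).comap (algebraMap R R') = _
      rw [Ideal.comap_comap, ← IsScalarTower.algebraMap_eq, IsScalarTower.algebraMap_eq R D D', ← Ideal.comap_comap,
        show (P.asIdeal.map (algebraMap D D')).comap (algebraMap D D') = P.asIdeal from
          IsLocalization.comap_map_of_isPrime_disjoint _ D' P.isPrime hd, ← hPr]
      rfl
    have : GeometricallyIrreducible (j ≫ pullback.snd f ι) := inferInstance
    rw [pullback.lift_snd] at this
    exact this

/-- The extended prime of the fibre lies over it. -/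
theorem map_liesOver_away [Module.Flat R D] (p : Ideal R) [p.IsPrime] {R' D' : Type u} [CommRing R'] [CommRing D']
    [Algebra R R'] [Algebra R' D'] [Algebra R D'] [Algebra D D'] [IsScalarTower R R' D'] [IsScalarTower R D D']
    [(p.map (algebraMap R D)).IsPrime] (e : D) [IsLocalization.Away e D'] (he : e ∉ p.map (algebraMap R D)) :
    ((p.map (algebraMap R R')).map (algebraMap R' D')).LiesOver (p.map (algebraMap R D)) := by
  refine ⟨?_⟩
  rw [Ideal.map_map, ← IsScalarTower.algebraMap_eq, IsScalarTower.algebraMap_eq R D D', ← Ideal.map_map]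
  exact (IsLocalization.comap_map_of_isPrime_disjoint _ D' inferInstance
    ((Ideal.disjoint_powers_iff_notMem e (Ideal.IsPrime.isRadical inferInstance)).2 he)).symm

end fibres

end Groth.Agent.FlatDevLoc
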