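import Groth.Agent.FlatDevLoc.Complete

/-! Compatible elements for shrinkings of complete dévissages. -/

universe u

set_option autoImplicit false
set_option backward.isDefEq.respectTransparency false
set_option backward.isDefEq.respectTransparency.types false
attribute [-instance] CategoryTheory.catToReflQuiver

open TensorProduct

namespace Groth.Agent.FlatDevLoc

variable {R S : Type u} [CommRing R] [CommRing S] [Algebra R S] {N : Type u} [AddCommGroup N] [Module S N]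
  {p : Ideal R} [p.IsPrime] {q : Ideal S} [q.IsPrime] {𝒟 : FlatCA.CompleteDevissage R S N p}
  (𝒜 : FlatCA.CompleteDevissageAt R S N p q 𝒟)

theorem notMem_qA {i : ℕ} {b : 𝒟.B i} (h : b ∉ 𝒜.qB i) : algebraMap (𝒟.B i) (𝒟.A i) b ∉ 𝒜.qA i :=
  fun hh => h ((𝒜.overA i).over ▸ hh)

theorem notMem_qB_of_step {i : ℕ} (hi : i + 1 < 𝒟.n) {x : 𝒟.B i} {y : 𝒟.A (i + 1)}
    (e : algebraMap (𝒟.B i) (𝒟.A (i + 1)) x = y) (hy : y ∉ 𝒜.qA (i + 1)) : x ∉ 𝒜.qB i := fun hh => hy (by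
  rw [← 𝒜.qStep i hi] at hh
  exact e ▸ hh)

/-- A chain ending in a given element of the last smooth algebra. -/
theorem exists_chain_last (w : 𝒟.B (𝒟.n - 1)) (hw : w ∉ 𝒜.qB (𝒟.n - 1)) :
    ∃ β : ∀ i, 𝒟.B i, β (𝒟.n - 1) = w ∧ (∀ i, i < 𝒟.n → β i ∉ 𝒜.qB i) ∧
      ∀ i, i + 1 < 𝒟.n →
        algebraMap (𝒟.B i) (𝒟.A (i + 1)) (β i) = algebraMap (𝒟.B (i + 1)) (𝒟.A (i + 1)) (β (i + 1)) := by
  suffices H : ∀ k, ∃ β : ∀ i, 𝒟.B i, β (𝒟.n - 1) = w ∧ (∀ i, i < 𝒟.n → 𝒟.n ≤ i + k + 1 → β i ∉ 𝒜.qB i) ∧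
      ∀ i, i + 1 < 𝒟.n → 𝒟.n ≤ i + k + 1 →
        algebraMap (𝒟.B i) (𝒟.A (i + 1)) (β i) = algebraMap (𝒟.B (i + 1)) (𝒟.A (i + 1)) (β (i + 1)) by
    obtain ⟨β, h1, h2, h3⟩ := H 𝒟.n
    exact ⟨β, h1, fun i hi => h2 i hi (by omega), fun i hi => h3 i hi (by omega)⟩
  intro k
  induction k with
  | zero =>
    refine ⟨Function.update (fun _ => 0) (𝒟.n - 1) w, Function.update_self _ _ _, fun i hi hk => ?_,
      fun i hi hk => absurd hi (by omega)⟩
    obtain rfl : i = 𝒟.n - 1 := by omega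
    rw [Function.update_self]
    exact hw
  | succ k ih =>
    obtain ⟨β, h1, h2, h3⟩ := ih
    by_cases hm : k + 2 ≤ 𝒟.n
    · obtain ⟨m, hm'⟩ : ∃ m, m + k + 2 = 𝒟.n := ⟨𝒟.n - (k + 2), by omega⟩
      obtain ⟨x, hx⟩ := 𝒟.surjBA' m (by omega) (algebraMap (𝒟.B (m + 1)) (𝒟.A (m + 1)) (β (m + 1)))
      have hnx : x ∉ 𝒜.qB m := notMem_qB_of_step 𝒜 (by omega) hx (notMem_qA 𝒜 (h2 (m + 1) (by omega) (by omega)))
      refine ⟨Function.update β m x, ?_, fun i hi hk => ?_, fun i hi hk => ?_⟩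
      · rw [Function.update_of_ne (by omega)]
        exact h1
      · by_cases he : i = m
        · subst he
          rw [Function.update_self]
          exact hnx
        · rw [Function.update_of_ne he]
          exact h2 i hi (by omega)
      · by_cases he : i = m
        · subst he
          rw [Function.update_self, Function.update_of_ne (by omega)]
          exact hx
        · rw [Function.update_of_ne he, Function.update_of_ne (by omega)]
          exact h3 i hi (by omega)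
    · exact ⟨β, h1, fun i hi hk => h2 i hi (by omega), fun i hi hk => h3 i hi (by omega)⟩

/-- A chain below a given element. -/
theorem exists_chain_dvd (k : ℕ) : ∀ (i : ℕ), i + k + 1 = 𝒟.n → ∀ c : 𝒟.A i, c ∉ 𝒜.qA i →
    ∃ β : ∀ j, 𝒟.B j, c ∣ algebraMap (𝒟.B i) (𝒟.A i) (β i) ∧
      (∀ j, i ≤ j → j < 𝒟.n → β j ∉ 𝒜.qB j) ∧
      ∀ j, i ≤ j → j + 1 < 𝒟.n →
        algebraMap (𝒟.B j) (𝒟.A (j + 1)) (β j) = algebraMap (𝒟.B (j + 1)) (𝒟.A (j + 1)) (β (j + 1)) := by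
  induction k with
  | zero =>
    intro i hi c hc
    haveI := 𝒟.finiteBA i (by omega)
    haveI := 𝒜.hqB i
    haveI := 𝒜.hqA i
    obtain ⟨e, d, hd, he⟩ := Groth.Agent.DevEtale.exists_dvd_of_unique (𝒜.qB i) (𝒜.qA i)
      (fun Q _ hQ => 𝒜.uniq i (by omega) Q hQ) c hc
    refine ⟨Function.update (fun _ => 0) i d, ?_, fun j hj hjn => ?_, fun j hj hjn => absurd hjn (by omega)⟩
    · rw [Function.update_self]
      exact ⟨e, he.symm⟩
    · obtain rfl : j = i := by omega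
      rw [Function.update_self]
      exact hd
  | succ k ih =>
    intro i hi c hc
    have hin : i + 1 < 𝒟.n := by omega
    haveI := 𝒟.finiteBA i (by omega)
    haveI := 𝒜.hqB i
    haveI := 𝒜.hqA i
    obtain ⟨e, d, hd, he⟩ := Groth.Agent.DevEtale.exists_dvd_of_unique (𝒜.qB i) (𝒜.qA i)
      (fun Q _ hQ => 𝒜.uniq i (by omega) Q hQ) c hc
    have hd' : algebraMap (𝒟.B i) (𝒟.A (i + 1)) d ∉ 𝒜.qA (i + 1) := fun hh => hd (by
      rw [← 𝒜.qStep i hin]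
      exact hh)
    obtain ⟨β, ⟨f, hf⟩, h2, h3⟩ := ih (i + 1) (by omega) _ hd'
    obtain ⟨f₀, rfl⟩ := 𝒟.surjBA' i hin f
    have hx : algebraMap (𝒟.B i) (𝒟.A (i + 1)) (d * f₀) = algebraMap (𝒟.B (i + 1)) (𝒟.A (i + 1)) (β (i + 1)) := by
      rw [map_mul, hf]
    have hnx : d * f₀ ∉ 𝒜.qB i :=
      notMem_qB_of_step 𝒜 hin hx (notMem_qA 𝒜 (h2 (i + 1) le_rfl hin))
    refine ⟨Function.update β i (d * f₀), ?_, fun j hj hjn => ?_, fun j hj hjn => ?_⟩
    · rw [Function.update_self, map_mul, ← he, mul_assoc]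
      exact dvd_mul_right c _
    · by_cases hji : j = i
      · subst hji
        rw [Function.update_self]
        exact hnx
      · rw [Function.update_of_ne hji]
        exact h2 j (by omega) hjn
    · by_cases hji : j = i
      · subst hji
        rw [Function.update_self, Function.update_of_ne (by omega)]
        exact hx
      · rw [Function.update_of_ne hji, Function.update_of_ne (by omega)]
        exact h3 j (by omega) hjn

/-- The inputs of a shrinking from a chain. -/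
theorem exists_inputs (β : ∀ i, 𝒟.B i) (hβ : ∀ i, i < 𝒟.n → β i ∉ 𝒜.qB i)
    (hcompat : ∀ i, i + 1 < 𝒟.n →
      algebraMap (𝒟.B i) (𝒟.A (i + 1)) (β i) = algebraMap (𝒟.B (i + 1)) (𝒟.A (i + 1)) (β (i + 1)))
    (s₀ : S) (hs₀ : algebraMap S (𝒟.A 0) s₀ = algebraMap (𝒟.B 0) (𝒟.A 0) (β 0)) :
    ∃ c : Inputs 𝒟, c.g ∉ p ∧ c.hX ∉ q ∧ (∀ (i : ℕ) (h : i < 𝒟.n), c.b i h ∉ 𝒜.qB i) ∧
      c.s₀ = s₀ ∧ ∀ (i : ℕ) (h : i < 𝒟.n), c.β i h = β i := by
  let U : Fin 𝒟.n → Set (PrimeSpectrum R) := fun j =>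
    PrimeSpectrum.comap (algebraMap R (𝒟.B j)) '' (PrimeSpectrum.basicOpen (β j) : Set (PrimeSpectrum (𝒟.B j)))
  have hU : IsOpen (⋂ j, U j) := isOpen_iInter_of_finite fun j => by
    haveI := 𝒟.smooth j j.2
    exact PrimeSpectrum.isOpenMap_comap_of_hasGoingDown_of_finitePresentation _ (PrimeSpectrum.basicOpen (β j)).isOpen
  have hpU : (⟨p, inferInstance⟩ : PrimeSpectrum R) ∈ ⋂ j, U j := Set.mem_iInter.2 fun j =>
    ⟨⟨𝒜.qB j, 𝒜.hqB j⟩, hβ j j.2, PrimeSpectrum.ext ((𝒜.overB j).over).symm⟩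
  obtain ⟨_, ⟨g, rfl⟩, hgp, hsub⟩ :=
    PrimeSpectrum.isTopologicalBasis_basic_opens.exists_subset_of_mem_open hpU hU
  have hgp : g ∉ p := hgp
  have hb : ∀ i, i < 𝒟.n → β i * algebraMap R (𝒟.B i) g ∉ 𝒜.qB i := fun i hi hh =>
    ((𝒜.hqB i).mem_or_mem hh).elim (hβ i hi) fun h' => hgp ((𝒜.overB i).over ▸ h')
  let c : Inputs 𝒟 :=
    { g := g, β := fun i _ => β i, s₀ := s₀, compat := hcompat, compat₀ := hs₀
      hb := fun i hi hh => hb i hi (Ideal.map_le_iff_le_comap.2 ((𝒜.overB i).over).le hh)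
      hsub := fun i hi r hr => by
        obtain ⟨P, hP, hPr⟩ := Set.mem_iInter.1 (hsub hr) ⟨i, hi⟩
        exact ⟨P, hP, hPr⟩ }
  refine ⟨c, hgp, fun hh => ?_, hb, rfl, fun _ _ => rfl⟩
  rw [← 𝒜.q0] at hh
  have e : algebraMap S (𝒟.A 0) c.hX = algebraMap (𝒟.B 0) (𝒟.A 0) (β 0 * algebraMap R (𝒟.B 0) g) := c.sa_eq
  exact notMem_qA 𝒜 (hb 0 𝒟.pos) (e ▸ Ideal.mem_comap.1 hh)

end Groth.Agent.FlatDevLoc
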