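import Groth.Agent.FlatDevLoc.Data

/-! Standard shrinkings of complete dévissages at a prime. -/

universe u

set_option autoImplicit false
set_option backward.isDefEq.respectTransparency false
set_option backward.isDefEq.respectTransparency.types false
attribute [-instance] CategoryTheory.catToReflQuiver

open TensorProduct

namespace Groth.Agent.FlatDevLoc

open Groth.Agent.FlatDevPad

set_option maxHeartbeats 4000000 in
theorem exists_completeDevissageAt
    {R S : Type u} [CommRing R] [CommRing S] [Algebra R S]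
    {N : Type u} [AddCommGroup N] [Module S N]
    {p : Ideal R} [p.IsPrime] {q : Ideal S} [q.IsPrime] {𝒟 : FlatCA.CompleteDevissage R S N p}
    (𝒜 : FlatCA.CompleteDevissageAt R S N p q 𝒟) (c : Inputs 𝒟) (hgp : c.g ∉ p) (hXq : c.hX ∉ q)
    (hbq : ∀ (i : ℕ) (h : i < 𝒟.n), c.b i h ∉ 𝒜.qB i) :
    ∃ (_ : Algebra (Localization.Away c.g) (Localization.Away c.hX)) (_ : IsScalarTower R (Localization.Away c.g) (Localization.Away c.hX))
        (_ : Module (Localization.Away c.g) (LocalizedModule (Submonoid.powers c.hX) N)) (_ : IsScalarTower (Localization.Away c.g) (Localization.Away c.hX) (LocalizedModule (Submonoid.powers c.hX) N))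
        (_ : (Ideal.map (algebraMap R (Localization.Away c.g)) p).IsPrime) (_ : (Ideal.map (algebraMap S (Localization.Away c.hX)) q).IsPrime)
        (𝒟' : FlatCA.CompleteDevissage (Localization.Away c.g) (Localization.Away c.hX) (LocalizedModule (Submonoid.powers c.hX) N) (Ideal.map (algebraMap R (Localization.Away c.g)) p))
        (𝒜' : FlatCA.CompleteDevissageAt (Localization.Away c.g) (Localization.Away c.hX) (LocalizedModule (Submonoid.powers c.hX) N) (Ideal.map (algebraMap R (Localization.Away c.g)) p) (Ideal.map (algebraMap S (Localization.Away c.hX)) q) 𝒟')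
      (aA : ∀ i : Fin 𝒟.n, Algebra (𝒟.A i) (𝒟'.A i)) (rA : ∀ i : Fin 𝒟.n, Algebra R (𝒟'.A i))
      (_t1 : ∀ i : Fin 𝒟.n, IsScalarTower R (Localization.Away c.g) (𝒟'.A i)) (_t2 : ∀ i : Fin 𝒟.n, IsScalarTower R (𝒟.A i) (𝒟'.A i))
      (aB : ∀ i : Fin 𝒟.n, Algebra (𝒟.B i) (𝒟'.B i)) (rB : ∀ i : Fin 𝒟.n, Algebra R (𝒟'.B i))
      (_t3 : ∀ i : Fin 𝒟.n, IsScalarTower R (Localization.Away c.g) (𝒟'.B i)) (_t4 : ∀ i : Fin 𝒟.n, IsScalarTower R (𝒟.B i) (𝒟'.B i))
      (bA : ∀ i : Fin 𝒟.n, Algebra (𝒟.B i) (𝒟'.A i)) (_t5 : ∀ i : Fin 𝒟.n, IsScalarTower (𝒟.B i) (𝒟.A i) (𝒟'.A i))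
      (_t6 : ∀ i : Fin 𝒟.n, IsScalarTower (𝒟.B i) (𝒟'.B i) (𝒟'.A i))
      (bA' : ∀ i : Fin 𝒟.n, Algebra (𝒟.B i) (𝒟'.A (i + 1)))
      (_t7 : ∀ i : Fin 𝒟.n, IsScalarTower (𝒟.B i) (𝒟'.B i) (𝒟'.A (i + 1)))
      (sA : Algebra S (𝒟'.A 0)) (_t8 : IsScalarTower S (Localization.Away c.hX) (𝒟'.A 0))
      (mA : ∀ i : Fin 𝒟.n, Module (𝒟.A i) (𝒟'.M i)) (_t9 : ∀ i : Fin 𝒟.n, IsScalarTower (𝒟.A i) (𝒟'.A i) (𝒟'.M i))
      (gM : ∀ i : Fin 𝒟.n, 𝒟.M i →ₗ[𝒟.A i] 𝒟'.M i),
        𝒟'.n = 𝒟.n ∧ 𝒟'.r = 𝒟.r ∧ 𝒜'.d = 𝒜.d ∧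
        (letI := aA ⟨0, 𝒟.pos⟩; IsScalarTower S (𝒟.A 0) (𝒟'.A 0)) ∧
      (∀ x : N, 𝒟'.isoN (LocalizedModule.mkLinearMap (Submonoid.powers c.hX) N x) = gM ⟨0, 𝒟.pos⟩ (𝒟.isoN x)) ∧
      (∀ (i : Fin 𝒟.n) (h : (i : ℕ) + 1 < 𝒟.n),
        letI := aA ⟨i + 1, h⟩; IsScalarTower (𝒟.B i) (𝒟.A (i + 1)) (𝒟'.A (i + 1))) ∧
        ∀ i : Fin 𝒟.n,
          c.a i i.2 ∉ 𝒜.qA i ∧ c.b i i.2 ∉ 𝒜.qB i ∧
          IsLocalization.Away (c.a i i.2) (𝒟'.A i) ∧ IsLocalization.Away (c.b i i.2) (𝒟'.B i) ∧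
          IsLocalizedModule (Submonoid.powers (c.a i i.2)) (gM i) ∧
          (𝒜'.qA i).LiesOver (𝒜.qA i) ∧ (𝒜'.qB i).LiesOver (𝒜.qB i) ∧
          LinearMap.range (𝒟'.α i) =
            Submodule.span (𝒟'.B i) ((gM i) '' (LinearMap.range (𝒟.α i) : Set (𝒟.M i))) := by
  classical
  let R' := Localization.Away c.g
  let S' := Localization.Away c.hX
  let p' : Ideal R' := p.map (algebraMap R R')
  let q' : Ideal S' := q.map (algebraMap S S')
  obtain ⟨hp', op⟩ := isPrime_map_away (T' := R') c.g p hgp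
  obtain ⟨hq', oq⟩ := isPrime_map_away (T' := S') c.hX q hXq
  letI mN : Module R' (LocalizedModule (Submonoid.powers c.hX) N) := Module.compHom _ (algebraMap R' S')
  have tN : IsScalarTower R' S' (LocalizedModule (Submonoid.powers c.hX) N) :=
    IsScalarTower.of_algebraMap_smul fun _ _ => rfl
  let d := c.data
  have haq : ∀ i : Fin 𝒟.n, c.a i i.2 ∉ 𝒜.qA i := fun i hh => hbq i i.2 (by
    rw [(𝒜.overA i).over]
    exact hh)
  let fA : ∀ i : Fin 𝒟.n, 𝒟.A i →+* d.toDev.A i := fun i =>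
    (d.eA i).symm.toRingEquiv.toRingHom.comp (algebraMap (𝒟.A i) (Localization.Away (c.a i i.2)))
  let fB : ∀ i : Fin 𝒟.n, 𝒟.B i →+* d.toDev.B i := fun i =>
    (d.eB i).symm.toRingEquiv.toRingHom.comp (algebraMap (𝒟.B i) (Localization.Away (c.b i i.2)))
  letI aA : ∀ i : Fin 𝒟.n, Algebra (𝒟.A i) (d.toDev.A i) := fun i => (fA i).toAlgebra
  letI rA : ∀ i : Fin 𝒟.n, Algebra R (d.toDev.A i) := fun i => ((algebraMap R' (d.toDev.A i)).comp (algebraMap R R')).toAlgebra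
  letI aB : ∀ i : Fin 𝒟.n, Algebra (𝒟.B i) (d.toDev.B i) := fun i => (fB i).toAlgebra
  letI rB : ∀ i : Fin 𝒟.n, Algebra R (d.toDev.B i) := fun i => ((algebraMap R' (d.toDev.B i)).comp (algebraMap R R')).toAlgebra
  letI bA : ∀ i : Fin 𝒟.n, Algebra (𝒟.B i) (d.toDev.A i) := fun i => ((algebraMap (d.toDev.B i) (d.toDev.A i)).comp (algebraMap (𝒟.B i) (d.toDev.B i))).toAlgebra
  letI bA' : ∀ i : Fin 𝒟.n, Algebra (𝒟.B i) (d.toDev.A (i + 1)) := fun i => ((algebraMap (d.toDev.B i) (d.toDev.A (i + 1))).comp (algebraMap (𝒟.B i) (d.toDev.B i))).toAlgebra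
  letI sA : Algebra S (d.toDev.A 0) := ((algebraMap S' (d.toDev.A 0)).comp (algebraMap S S')).toAlgebra
  letI mA : ∀ i : Fin 𝒟.n, Module (𝒟.A i) (d.toDev.M i) := fun i => Module.compHom _ (fA i)
  have t1 : ∀ i : Fin 𝒟.n, IsScalarTower R R' (d.toDev.A i) := fun i => IsScalarTower.of_algebraMap_eq fun _ => rfl
  have t3 : ∀ i : Fin 𝒟.n, IsScalarTower R R' (d.toDev.B i) := fun i => IsScalarTower.of_algebraMap_eq fun _ => rfl
  have t2 : ∀ i : Fin 𝒟.n, IsScalarTower R (𝒟.A i) (d.toDev.A i) := fun i => IsScalarTower.of_algebraMap_eq fun r => by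
    show algebraMap R' (d.PA i) (algebraMap R R' r) = (d.eA i).symm (algebraMap (𝒟.A i) (Localization.Away (c.a i i.2)) (algebraMap R (𝒟.A i) r))
    rw [← IsScalarTower.algebraMap_apply R (𝒟.A i) (Localization.Away (c.a i i.2)),
      IsScalarTower.algebraMap_apply R R' (Localization.Away (c.a i i.2))]
    exact ((d.eA i).symm.commutes (algebraMap R R' r)).symm
  have t4 : ∀ i : Fin 𝒟.n, IsScalarTower R (𝒟.B i) (d.toDev.B i) := fun i => IsScalarTower.of_algebraMap_eq fun r => by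
    show algebraMap R' (d.PB i) (algebraMap R R' r) = (d.eB i).symm (algebraMap (𝒟.B i) (Localization.Away (c.b i i.2)) (algebraMap R (𝒟.B i) r))
    rw [← IsScalarTower.algebraMap_apply R (𝒟.B i) (Localization.Away (c.b i i.2)),
      IsScalarTower.algebraMap_apply R R' (Localization.Away (c.b i i.2))]
    exact ((d.eB i).symm.commutes (algebraMap R R' r)).symm
  have t5 : ∀ i : Fin 𝒟.n, IsScalarTower (𝒟.B i) (𝒟.A i) (d.toDev.A i) := fun i => IsScalarTower.of_algebraMap_eq fun b => by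
    show d.pba i ((d.eB i).symm (algebraMap (𝒟.B i) (Localization.Away (c.b i i.2)) b)) =
      (d.eA i).symm (algebraMap (𝒟.A i) (Localization.Away (c.a i i.2)) (algebraMap (𝒟.B i) (𝒟.A i) b))
    apply (d.eA i).injective
    rw [d.pba_eq, AlgEquiv.apply_symm_apply, AlgEquiv.apply_symm_apply]
    exact c.ba_algebraMap i i.2 b
  have t6 : ∀ i : Fin 𝒟.n, IsScalarTower (𝒟.B i) (d.toDev.B i) (d.toDev.A i) := fun i => IsScalarTower.of_algebraMap_eq fun _ => rfl
  have t7 : ∀ i : Fin 𝒟.n, IsScalarTower (𝒟.B i) (d.toDev.B i) (d.toDev.A (i + 1)) := fun i => IsScalarTower.of_algebraMap_eq fun _ => rfl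
  have t8 : IsScalarTower S S' (d.toDev.A 0) := IsScalarTower.of_algebraMap_eq fun _ => rfl
  have t9 : ∀ i : Fin 𝒟.n, IsScalarTower (𝒟.A i) (d.toDev.A i) (d.toDev.M i) := fun i => IsScalarTower.of_algebraMap_smul fun _ _ => rfl
  have step : ∀ (i : ℕ) (h : i + 1 < 𝒟.n) (b : 𝒟.B i),
      algebraMap (d.toDev.B i) (d.toDev.A (i + 1)) (fB ⟨i, Nat.lt_of_succ_lt h⟩ b) =
        fA ⟨i + 1, h⟩ (algebraMap (𝒟.B i) (𝒟.A (i + 1)) b) := fun i h b => by
    show d.pba' i ((d.eB ⟨i, Nat.lt_of_succ_lt h⟩).symm (algebraMap (𝒟.B i) (Localization.Away (c.b i (Nat.lt_of_succ_lt h))) b)) =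
      (d.eA ⟨i + 1, h⟩).symm (algebraMap (𝒟.A (i + 1)) (Localization.Away (c.a (i + 1) h)) (algebraMap (𝒟.B i) (𝒟.A (i + 1)) b))
    apply (d.eA ⟨i + 1, h⟩).injective
    rw [AlgEquiv.apply_symm_apply, d.pba'_eq i h]
    show c.ba' i h (d.eB ⟨i, Nat.lt_of_succ_lt h⟩ ((d.eB ⟨i, Nat.lt_of_succ_lt h⟩).symm _)) = _
    rw [AlgEquiv.apply_symm_apply]
    exact c.ba'_algebraMap i h b
  have step₀ : ∀ s : S, d.psa (algebraMap S S' s) = fA ⟨0, 𝒟.pos⟩ (algebraMap S (𝒟.A 0) s) := fun s => by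
    show _ = (d.eA ⟨0, 𝒟.pos⟩).symm (algebraMap (𝒟.A 0) (Localization.Away (c.a 0 𝒟.pos)) (algebraMap S (𝒟.A 0) s))
    apply (d.eA ⟨0, 𝒟.pos⟩).injective
    rw [AlgEquiv.apply_symm_apply]
    exact c.sa_algebraMap s
  -- localizations
  have locA : ∀ i : Fin 𝒟.n, IsLocalization.Away (c.a i i.2) (d.toDev.A i) := fun i =>
    IsLocalization.isLocalization_of_algEquiv (S := Localization.Away (c.a i i.2)) (Submonoid.powers (c.a i i.2))
      { (d.eA i).symm.toRingEquiv with commutes' := fun _ => rfl }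
  have locB : ∀ i : Fin 𝒟.n, IsLocalization.Away (c.b i i.2) (d.toDev.B i) := fun i =>
    IsLocalization.isLocalization_of_algEquiv (S := Localization.Away (c.b i i.2)) (Submonoid.powers (c.b i i.2))
      { (d.eB i).symm.toRingEquiv with commutes' := fun _ => rfl }
  letI modA : ∀ i : Fin 𝒟.n, Module (d.A i) (c.M i i.2) := fun i => c.moduleM' i i.2
  let gM : ∀ i : Fin 𝒟.n, 𝒟.M i →ₗ[𝒟.A i] d.toDev.M i := fun i =>
    { toFun := fun m _ => c.l i i.2 m
      map_add' := fun m m' => funext fun _ => map_add (c.l i i.2) m m'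
      map_smul' := fun a m => funext fun _ => by
        show c.l i i.2 (a • m) = (d.eA i) ((d.eA i).symm (algebraMap (𝒟.A i) (Localization.Away (c.a i i.2)) a)) • c.l i i.2 m
        rw [AlgEquiv.apply_symm_apply, map_smul]
        exact (IsScalarTower.algebraMap_smul (Localization.Away (c.a i i.2)) a _).symm }
  have locM : ∀ i : Fin 𝒟.n, IsLocalizedModule (Submonoid.powers (c.a i i.2)) (gM i) := fun i =>
    let E : c.M i i.2 ≃ₗ[𝒟.A i] d.toDev.M i :=
      { toFun := fun x _ => x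
        invFun := fun x => x ⟨i.2⟩
        left_inv := fun _ => rfl
        right_inv := fun _ => funext fun _ => rfl
        map_add' := fun _ _ => rfl
        map_smul' := fun a x => funext fun _ => by
          show a • x = (d.eA i) ((d.eA i).symm (algebraMap (𝒟.A i) (Localization.Away (c.a i i.2)) a)) • x
          rw [AlgEquiv.apply_symm_apply]
          exact (IsScalarTower.algebraMap_smul (Localization.Away (c.a i i.2)) a _).symm }
    have h : IsLocalizedModule (Submonoid.powers (c.a i i.2)) (E.toLinearMap.comp (c.l i i.2)) :=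
      IsLocalizedModule.of_linearEquiv _ _ _
    h
  -- points
  let qBP : ∀ i, Ideal (d.toDev.B i) := fun i =>
    if h : i < 𝒟.n then (𝒜.qB i).map (fB ⟨i, h⟩)
    else p'.comap ((Pi.evalRingHom (fun _ : PLift.{0} (d.n ≤ i) => R') ⟨not_lt.1 h⟩).comp (RingHom.snd _ _))
  let qAP : ∀ i, Ideal (d.toDev.A i) := fun i =>
    if h : i < 𝒟.n then (𝒜.qA i).map (fA ⟨i, h⟩)
    else if h' : i - 1 < 𝒟.n then
      ((𝒜.qB (i - 1)).map (algebraMap (𝒟.B (i - 1)) (Localization.Away (c.b (i - 1) h')))).comap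
        ((Pi.evalRingHom (fun h : PLift.{0} (d.n ≤ i ∧ i - 1 < d.n) => d.B ⟨i - 1, h.down.2⟩) ⟨⟨not_lt.1 h, h'⟩⟩).comp
          ((RingHom.fst _ _).comp (RingHom.snd _ _)))
    else p'.comap ((Pi.evalRingHom (fun _ : PLift.{0} (d.n < i) => R')
      ⟨show 𝒟.n < i from have := 𝒟.pos; by omega⟩).comp ((RingHom.snd _ _).comp (RingHom.snd _ _)))
  have hBmap : ∀ i : Fin 𝒟.n, qBP i = (𝒜.qB i).map (algebraMap (𝒟.B i) (d.toDev.B i)) := fun i => dif_pos i.2
  have hAmap : ∀ i : Fin 𝒟.n, qAP i = (𝒜.qA i).map (algebraMap (𝒟.A i) (d.toDev.A i)) := fun i => dif_pos i.2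
  have oB : ∀ i : Fin 𝒟.n, (qBP i).IsPrime ∧ (qBP i).LiesOver (𝒜.qB i) := fun i => by
    haveI := 𝒜.hqB i
    haveI := locB i
    rw [hBmap i]
    exact isPrime_map_away (c.b i i.2) (𝒜.qB i) (hbq i i.2)
  have oA : ∀ i : Fin 𝒟.n, (qAP i).IsPrime ∧ (qAP i).LiesOver (𝒜.qA i) := fun i => by
    haveI := 𝒜.hqA i
    haveI := locA i
    rw [hAmap i]
    exact isPrime_map_away (c.a i i.2) (𝒜.qA i) (haq i)
  have hqAP : ∀ i, (qAP i).IsPrime := fun i => by
    by_cases h : i < 𝒟.n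
    · exact (oA ⟨i, h⟩).1
    · by_cases h' : i - 1 < 𝒟.n
      · simp only [qAP, dif_neg h, dif_pos h']
        haveI := 𝒜.hqB (i - 1)
        haveI := (isPrime_map_away (T' := Localization.Away (c.b (i - 1) h')) _ (𝒜.qB (i - 1)) (hbq (i - 1) h')).1
        infer_instance
      · simp only [qAP, dif_neg h, dif_neg h']
        infer_instance
  have hqBP : ∀ i, (qBP i).IsPrime := fun i => by
    by_cases h : i < 𝒟.n
    · exact (oB ⟨i, h⟩).1
    · simp only [qBP, dif_neg h]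
      infer_instance
  have overR : ∀ (i : Fin 𝒟.n) (T' : Type u) [CommRing T'] [Algebra R T'] [Algebra R' T'] [IsScalarTower R R' T']
      [Algebra (𝒟.B i) T'] [IsScalarTower R (𝒟.B i) T'] (Q : Ideal T'), Q.LiesOver (𝒜.qB i) → Q.LiesOver p' :=
    fun i T' _ _ _ _ _ _ Q hQ => ⟨eq_of_comap_away c.g _ _ (op.over.symm.trans ((𝒜.overB i).over.trans (by
      rw [hQ.over]
      show (Q.comap (algebraMap (𝒟.B i) T')).comap (algebraMap R (𝒟.B i)) = (Q.comap (algebraMap R' T')).comap (algebraMap R R')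
      rw [Ideal.comap_comap, Ideal.comap_comap, ← IsScalarTower.algebraMap_eq, ← IsScalarTower.algebraMap_eq])))⟩
  have hoverB : ∀ i, (qBP i).LiesOver p' := fun i => by
    by_cases h : i < 𝒟.n
    · obtain ⟨j, rfl⟩ : ∃ j : Fin 𝒟.n, (j : ℕ) = i := ⟨⟨i, h⟩, rfl⟩
      haveI := t3 j
      haveI := t4 j
      exact overR j (d.toDev.B j) (qBP j) (oB j).2
    · refine ⟨?_⟩
      simp only [qBP, dif_neg h]
      rfl
  have hoverA : ∀ i, (qAP i).LiesOver (qBP i) := fun i => by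
    by_cases h : i < 𝒟.n
    · obtain ⟨j, rfl⟩ : ∃ j : Fin 𝒟.n, (j : ℕ) = i := ⟨⟨i, h⟩, rfl⟩
      haveI := locB j
      refine ⟨eq_of_comap_away (c.b j j.2) _ _ ?_⟩
      show (qBP j).comap (fB j) = ((qAP j).comap (algebraMap (d.toDev.B j) (d.toDev.A j))).comap (fB j)
      rw [Ideal.comap_comap, show (algebraMap (d.toDev.B j) (d.toDev.A j)).comp (fB j) =
        (fA j).comp (algebraMap (𝒟.B j) (𝒟.A j)) from RingHom.ext fun b =>
          (haveI := t5 j; IsScalarTower.algebraMap_apply (𝒟.B j) (𝒟.A j) (d.toDev.A j) b), ← Ideal.comap_comap]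
      exact (oB j).2.over.symm.trans ((𝒜.overA j).over.trans (congrArg _ (oA j).2.over))
    · by_cases h' : i - 1 < 𝒟.n
      · refine ⟨?_⟩
        simp only [qBP, qAP, dif_neg h, dif_pos h']
        haveI := 𝒜.hqB (i - 1)
        have e := (overR ⟨i - 1, h'⟩ (Localization.Away (c.b (i - 1) h')) _
          (isPrime_map_away (T' := Localization.Away (c.b (i - 1) h')) _ (𝒜.qB (i - 1)) (hbq (i - 1) h')).2).over
        exact congrArg (Ideal.comap _) e
      · refine ⟨?_⟩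
        simp only [qBP, qAP, dif_neg h, dif_neg h']
        rfl
  let 𝒜' : FlatCA.CompleteDevissageAt R' S' (LocalizedModule (Submonoid.powers c.hX) N) p' q' d.toDev :=
    { qB := qBP
      qA := qAP
      hqB := hqBP
      hqA := hqAP
      overB := hoverB
      overA := hoverA
      pureTrans := fun i h => by
        obtain ⟨j, rfl⟩ : ∃ j : Fin 𝒟.n, (j : ℕ) = i := ⟨⟨i, h⟩, rfl⟩
        haveI := 𝒜.hqB j
        haveI := 𝒜.overB j
        haveI := t3 j
        haveI := t4 j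
        haveI := locB j
        haveI : (qBP j).IsPrime := hqBP j
        haveI : (qBP j).LiesOver (𝒜.qB j) := (oB j).2
        haveI : (qBP j).LiesOver p' := hoverB j
        exact pureTrans_away (D := 𝒟.B j) c.g (c.b j j.2) p p' (𝒜.qB j) (qBP j) (𝒜.pureTrans j h)
      uniq := fun i h Q _ hQ => by
        obtain ⟨j, rfl⟩ : ∃ j : Fin 𝒟.n, (j : ℕ) = i := ⟨⟨i, h⟩, rfl⟩
        haveI := locA j
        haveI := hqAP j
        refine eq_of_comap_away (c.a j j.2) _ _ ?_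
        have e : (Q.comap (fA j)).LiesOver (𝒜.qB j) := ⟨by
          show 𝒜.qB j = (Q.comap (fA j)).comap (algebraMap (𝒟.B j) (𝒟.A j))
          rw [Ideal.comap_comap, show (fA j).comp (algebraMap (𝒟.B j) (𝒟.A j)) =
            (algebraMap (d.toDev.B j) (d.toDev.A j)).comp (fB j) from RingHom.ext fun b =>
              ((haveI := t5 j; IsScalarTower.algebraMap_apply (𝒟.B j) (𝒟.A j) (d.toDev.A j) b)).symm, ← Ideal.comap_comap]
          exact (oB j).2.over.trans (congrArg _ hQ.over)⟩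
        exact (𝒜.uniq j h (Q.comap (fA j)) e).trans (oA j).2.over
      q0 := by
        haveI := hqAP 0
        refine eq_of_comap_away c.hX _ _ ?_
        show ((qAP 0).comap (algebraMap S' (d.toDev.A 0))).comap (algebraMap S S') = _
        rw [Ideal.comap_comap, show (algebraMap S' (d.toDev.A 0)).comp (algebraMap S S') =
          (fA ⟨0, 𝒟.pos⟩).comp (algebraMap S (𝒟.A 0)) from RingHom.ext step₀, ← Ideal.comap_comap]
        exact ((congrArg (Ideal.comap _) (oA ⟨0, 𝒟.pos⟩).2.over).symm.trans 𝒜.q0).trans oq.over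
      qStep := fun i h => by
        obtain ⟨j, rfl⟩ : ∃ j : Fin 𝒟.n, (j : ℕ) = i := ⟨⟨i, Nat.lt_of_succ_lt h⟩, rfl⟩
        haveI := locB j
        refine eq_of_comap_away (c.b j j.2) _ _ ?_
        show ((qAP (j + 1)).comap (algebraMap (d.toDev.B j) (d.toDev.A (j + 1)))).comap (fB j) = _
        rw [Ideal.comap_comap, show (algebraMap (d.toDev.B j) (d.toDev.A (j + 1))).comp (fB j) =
          (fA ⟨(j : ℕ) + 1, h⟩).comp (algebraMap (𝒟.B j) (𝒟.A (j + 1))) from RingHom.ext (step j h), ← Ideal.comap_comap]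
        exact ((congrArg (Ideal.comap _) (oA ⟨(j : ℕ) + 1, h⟩).2.over).symm.trans (𝒜.qStep j h)).trans
          (oB j).2.over
      d := 𝒜.d
      relDim := fun i h => by
        obtain ⟨j, rfl⟩ : ∃ j : Fin 𝒟.n, (j : ℕ) = i := ⟨⟨i, h⟩, rfl⟩
        haveI := t3 j
        haveI := t4 j
        haveI := locB j
        exact smoothRelDim_away (D := 𝒟.B j) c.g (𝒜.d j) (𝒜.relDim j h) (c.b j j.2)
      locDim := fun i h => by
        obtain ⟨j, rfl⟩ : ∃ j : Fin 𝒟.n, (j : ℕ) = i := ⟨⟨i, h⟩, rfl⟩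
        haveI := 𝒜.hqB j
        haveI := 𝒜.overB j
        haveI := t3 j
        haveI := t4 j
        haveI := locB j
        haveI := locA j
        haveI := locM j
        haveI := t9 j
        haveI := 𝒟.finiteBA j h
        haveI := 𝒟.finiteM j h
        haveI : Module.Finite (𝒟.B j) (𝒟.M j) := Module.Finite.trans (𝒟.A j) (𝒟.M j)
        haveI : (qBP j).IsPrime := hqBP j
        haveI : (qBP j).LiesOver (𝒜.qB j) := (oB j).2
        haveI : (qBP j).LiesOver p' := hoverB j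
        letI : Module (𝒟.B j) (d.toDev.M j) := Module.compHom _ (algebraMap (𝒟.B j) (d.toDev.B j))
        haveI : IsScalarTower (𝒟.B j) (d.toDev.B j) (d.toDev.M j) := IsScalarTower.of_algebraMap_smul fun _ _ => rfl
        obtain ⟨l, hl, -⟩ := isBaseChange_away (B' := d.toDev.B j) (A' := d.toDev.A j) (c.b j j.2) (c.a j j.2) rfl
          (algebraMap (d.toDev.B j) (d.toDev.A j)) (fun b => (haveI := t5 j; IsScalarTower.algebraMap_apply (𝒟.B j) (𝒟.A j) (d.toDev.A j) b)) (gM j)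
        exact (exists_localDim_openEmbedding l hl c.g (c.b j j.2) p p' (𝒜.qB j) (qBP j) (𝒜.d j) (𝒜.locDim j h)).2 }
  refine ⟨inferInstance, inferInstance, mN, tN, hp', hq', d.toDev, 𝒜', aA, rA, t1, t2, aB, rB, t3, t4, bA, t5, t6,
    bA', t7, sA, t8, mA, t9, gM, rfl, rfl, rfl, ?_, ?_, ?_, ?_⟩
  · letI := aA ⟨0, 𝒟.pos⟩
    exact IsScalarTower.of_algebraMap_eq step₀
  · exact fun x => funext fun _ => (Classical.choose_spec c.exists_isoN).2.2 x
  · intro i h
    letI := aA ⟨i + 1, h⟩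
    exact IsScalarTower.of_algebraMap_eq (step i h)
  intro i
  refine ⟨haq i, hbq i i.2, locA i, locB i, locM i, (oA i).2, (oB i).2, ?_⟩
  letI : Module (Localization.Away (c.b i i.2)) (c.M i i.2) := Module.compHom _ (c.ba i i.2).toRingHom
  letI : Module (d.B i) (c.M i i.2) := Module.compHom _ (c.ba i i.2).toRingHom
  letI : Module (d.PB i) (d.toDev.M i) := (inferInstance : Module (d.toDev.B i) (d.toDev.M i))
  haveI : RingHomSurjective (d.eB i).symm.toRingEquiv.toRingHom := ⟨(d.eB i).symm.surjective⟩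
  let j : c.M i i.2 →ₛₗ[(d.eB i).symm.toRingEquiv.toRingHom] d.toDev.M i :=
    { toFun := fun x _ => x, map_add' := fun _ _ => rfl,
      map_smul' := fun b x => funext fun _ =>
        (congrArg (fun z => c.ba i i.2 z • x) ((d.eB i).apply_symm_apply b)).symm }
  have e1 : ⇑(gM i) '' (LinearMap.range (𝒟.α i) : Set (𝒟.M i)) =
      j '' (⇑(c.l i i.2) '' (LinearMap.range (𝒟.α i) : Set (𝒟.M i))) := by
    rw [Set.image_image]
    rfl
  rw [e1, ← Submodule.map_span]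
  ext x
  constructor
  · rintro ⟨v, rfl⟩
    exact ⟨_, (c.range_α i i.2 _).1 ⟨fun k => (v k).1 ⟨i.2⟩, rfl⟩, funext fun _ => rfl⟩
  · rintro ⟨z, hz, rfl⟩
    obtain ⟨v, hv⟩ := (c.range_α i i.2 z).2 hz
    exact ⟨fun k => (fun _ => v k, 0), funext fun _ => hv⟩

end Groth.Agent.FlatDevLoc
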