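import Groth.Agent.FlatDevLoc.Step
import Groth.Agent.FlatDevPad.BaseChange

/-! Shrinkings of a complete dévissage, as data. -/

universe u

set_option autoImplicit false
set_option backward.isDefEq.respectTransparency false
set_option backward.isDefEq.respectTransparency.types false
attribute [-instance] CategoryTheory.catToReflQuiver

open TensorProduct AlgebraicGeometry CategoryTheory

namespace Groth.Agent.FlatDevLoc

open Groth.Agent.FlatDevPad

variable {R S : Type u} [CommRing R] [CommRing S] [Algebra R S] {N : Type u} [AddCommGroup N] [Module S N]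
  {p : Ideal R} [p.IsPrime]

/-- The elements defining a shrinking: an element of the base and compatible elements of the smooth algebras. -/
structure Inputs (𝒟 : FlatCA.CompleteDevissage R S N p) : Type u where
  g : R
  β : ∀ i : ℕ, i < 𝒟.n → 𝒟.B i
  s₀ : S
  compat : ∀ (i : ℕ) (h : i + 1 < 𝒟.n), algebraMap (𝒟.B i) (𝒟.A (i + 1)) (β i (Nat.lt_of_succ_lt h)) =
    algebraMap (𝒟.B (i + 1)) (𝒟.A (i + 1)) (β (i + 1) h)
  compat₀ : algebraMap S (𝒟.A 0) s₀ = algebraMap (𝒟.B 0) (𝒟.A 0) (β 0 𝒟.pos)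
  hb : ∀ (i : ℕ) (h : i < 𝒟.n), β i h * algebraMap R (𝒟.B i) g ∉ p.map (algebraMap R (𝒟.B i))
  hsub : ∀ (i : ℕ) (h : i < 𝒟.n) (r : PrimeSpectrum R), g ∉ r.asIdeal →
    ∃ P : PrimeSpectrum (𝒟.B i), β i h ∉ P.asIdeal ∧ PrimeSpectrum.comap (algebraMap R (𝒟.B i)) P = r

variable {𝒟 : FlatCA.CompleteDevissage R S N p} (c : Inputs 𝒟)

/-- The element inverted in `S`. -/
noncomputable def Inputs.hX : S := c.s₀ * algebraMap R S c.g

/-- The element inverted in `B j`. -/
noncomputable def Inputs.b (i : ℕ) (h : i < 𝒟.n) : 𝒟.B i := c.β i h * algebraMap R (𝒟.B i) c.g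

/-- The element inverted in `A j`. -/
noncomputable def Inputs.a (i : ℕ) (h : i < 𝒟.n) : 𝒟.A i := algebraMap (𝒟.B i) (𝒟.A i) (c.b i h)

theorem Inputs.dvd_hX : algebraMap R S c.g ∣ c.hX := ⟨c.s₀, mul_comm _ _⟩

theorem Inputs.dvd_b (i : ℕ) (h : i < 𝒟.n) : algebraMap R (𝒟.B i) c.g ∣ c.b i h := ⟨c.β i h, mul_comm _ _⟩

theorem Inputs.dvd_a (i : ℕ) (h : i < 𝒟.n) : algebraMap R (𝒟.A i) c.g ∣ c.a i h := by
  rw [IsScalarTower.algebraMap_apply R (𝒟.B i) (𝒟.A i)]
  exact map_dvd _ (c.dvd_b i h)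

theorem isUnit_away {T : Type u} [CommRing T] [Algebra R T] (g : R) (x : T) (h : algebraMap R T g ∣ x) :
    IsUnit (algebraMap R (Localization.Away x) g) := by
  rw [IsScalarTower.algebraMap_apply R T (Localization.Away x)]
  exact isUnit_of_dvd_unit (map_dvd _ h) (IsLocalization.Away.algebraMap_isUnit (S := Localization.Away x) x)

noncomputable instance Inputs.algX : Algebra (Localization.Away c.g) (Localization.Away c.hX) :=
  (IsLocalization.Away.lift c.g (isUnit_away c.g c.hX c.dvd_hX) : Localization.Away c.g →+* Localization.Away c.hX).toAlgebra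

noncomputable instance Inputs.algB (i : ℕ) (h : i < 𝒟.n) : Algebra (Localization.Away c.g) (Localization.Away (c.b i h)) :=
  (IsLocalization.Away.lift c.g (isUnit_away c.g (c.b i h) (c.dvd_b i h)) :
    Localization.Away c.g →+* Localization.Away (c.b i h)).toAlgebra

noncomputable instance Inputs.algA (i : ℕ) (h : i < 𝒟.n) : Algebra (Localization.Away c.g) (Localization.Away (c.a i h)) :=
  (IsLocalization.Away.lift c.g (isUnit_away c.g (c.a i h) (c.dvd_a i h)) :
    Localization.Away c.g →+* Localization.Away (c.a i h)).toAlgebra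

instance Inputs.towerX : IsScalarTower R (Localization.Away c.g) (Localization.Away c.hX) :=
  IsScalarTower.of_algebraMap_eq fun r => (IsLocalization.Away.lift_eq c.g (isUnit_away c.g c.hX c.dvd_hX) r).symm

instance Inputs.towerB (i : ℕ) (h : i < 𝒟.n) : IsScalarTower R (Localization.Away c.g) (Localization.Away (c.b i h)) :=
  IsScalarTower.of_algebraMap_eq fun r => (IsLocalization.Away.lift_eq c.g (isUnit_away c.g (c.b i h) (c.dvd_b i h)) r).symm

instance Inputs.towerA (i : ℕ) (h : i < 𝒟.n) : IsScalarTower R (Localization.Away c.g) (Localization.Away (c.a i h)) :=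
  IsScalarTower.of_algebraMap_eq fun r => (IsLocalization.Away.lift_eq c.g (isUnit_away c.g (c.a i h) (c.dvd_a i h)) r).symm

/-- The shrunken module. -/
def Inputs.M (j : ℕ) (hj : j < 𝒟.n) : Type u := LocalizedModule (Submonoid.powers (c.a j hj)) (𝒟.M j)

noncomputable instance Inputs.addCommGroupM (j : ℕ) (hj : j < 𝒟.n) : AddCommGroup (c.M j hj) :=
  inferInstanceAs (AddCommGroup (LocalizedModule (Submonoid.powers (c.a j hj)) (𝒟.M j)))

noncomputable instance Inputs.moduleM (j : ℕ) (hj : j < 𝒟.n) : Module (𝒟.A j) (c.M j hj) :=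
  inferInstanceAs (Module (𝒟.A j) (LocalizedModule (Submonoid.powers (c.a j hj)) (𝒟.M j)))

noncomputable instance Inputs.moduleM' (j : ℕ) (hj : j < 𝒟.n) : Module (Localization.Away (c.a j hj)) (c.M j hj) :=
  inferInstanceAs (Module (Localization.Away (c.a j hj)) (LocalizedModule (Submonoid.powers (c.a j hj)) (𝒟.M j)))

instance Inputs.towerM (j : ℕ) (hj : j < 𝒟.n) : IsScalarTower (𝒟.A j) (Localization.Away (c.a j hj)) (c.M j hj) :=
  inferInstanceAs (IsScalarTower (𝒟.A j) (Localization.Away (c.a j hj))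
    (LocalizedModule (Submonoid.powers (c.a j hj)) (𝒟.M j)))

theorem Inputs.ba'_eq (i : ℕ) (h : i + 1 < 𝒟.n) :
    IsScalarTower.toAlgHom R (𝒟.B i) (𝒟.A (i + 1)) (c.b i (Nat.lt_of_succ_lt h)) = c.a (i + 1) h := by
  show algebraMap (𝒟.B i) (𝒟.A (i + 1)) (c.β i (Nat.lt_of_succ_lt h) * algebraMap R (𝒟.B i) c.g) =
    algebraMap (𝒟.B (i + 1)) (𝒟.A (i + 1)) (c.β (i + 1) h * algebraMap R (𝒟.B (i + 1)) c.g)
  rw [map_mul, map_mul, ← IsScalarTower.algebraMap_apply, ← IsScalarTower.algebraMap_apply, c.compat i h]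

theorem Inputs.sa_eq : IsScalarTower.toAlgHom R S (𝒟.A 0) c.hX = c.a 0 𝒟.pos := by
  show algebraMap S (𝒟.A 0) (c.s₀ * algebraMap R S c.g) =
    algebraMap (𝒟.B 0) (𝒟.A 0) (c.β 0 𝒟.pos * algebraMap R (𝒟.B 0) c.g)
  rw [map_mul, map_mul, ← IsScalarTower.algebraMap_apply, ← IsScalarTower.algebraMap_apply, c.compat₀]

/-- The shrunken map `B i → A i`. -/
noncomputable def Inputs.ba (j : ℕ) (hj : j < 𝒟.n) :
    Localization.Away (c.b j hj) →ₐ[Localization.Away c.g] Localization.Away (c.a j hj) :=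
  mapAway c.g (IsScalarTower.toAlgHom R (𝒟.B j) (𝒟.A j)) (c.b j hj) (c.a j hj) rfl

/-- The shrunken map `B i → A (i + 1)`. -/
noncomputable def Inputs.ba' (i : ℕ) (h : i + 1 < 𝒟.n) :
    Localization.Away (c.b i (Nat.lt_of_succ_lt h)) →ₐ[Localization.Away c.g] Localization.Away (c.a (i + 1) h) :=
  mapAway c.g (IsScalarTower.toAlgHom R (𝒟.B i) (𝒟.A (i + 1))) (c.b i (Nat.lt_of_succ_lt h)) (c.a (i + 1) h)
    (c.ba'_eq i h)

/-- The shrunken map `S → A 0`. -/
noncomputable def Inputs.sa :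
    Localization.Away c.hX →ₐ[Localization.Away c.g] Localization.Away (c.a 0 𝒟.pos) :=
  mapAway c.g (IsScalarTower.toAlgHom R S (𝒟.A 0)) c.hX (c.a 0 𝒟.pos) c.sa_eq

theorem Inputs.ba_algebraMap (j : ℕ) (hj : j < 𝒟.n) (x : 𝒟.B j) :
    (c.ba j hj).toRingHom (algebraMap (𝒟.B j) (Localization.Away (c.b j hj)) x) =
      algebraMap (𝒟.A j) (Localization.Away (c.a j hj)) (algebraMap (𝒟.B j) (𝒟.A j) x) :=
  mapAway_algebraMap c.g _ _ _ _ x

theorem Inputs.ba'_algebraMap (i : ℕ) (h : i + 1 < 𝒟.n) (x : 𝒟.B i) :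
    (c.ba' i h).toRingHom (algebraMap (𝒟.B i) (Localization.Away (c.b i (Nat.lt_of_succ_lt h))) x) =
      algebraMap (𝒟.A (i + 1)) (Localization.Away (c.a (i + 1) h)) (algebraMap (𝒟.B i) (𝒟.A (i + 1)) x) :=
  mapAway_algebraMap c.g _ _ _ _ x

theorem Inputs.sa_algebraMap (x : S) :
    c.sa.toRingHom (algebraMap S (Localization.Away c.hX) x) =
      algebraMap (𝒟.A 0) (Localization.Away (c.a 0 𝒟.pos)) (algebraMap S (𝒟.A 0) x) :=
  mapAway_algebraMap c.g _ _ _ _ x

/-- The map into the shrunken module. -/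
noncomputable def Inputs.l (j : ℕ) (hj : j < 𝒟.n) : 𝒟.M j →ₗ[𝒟.A j] c.M j hj :=
  LocalizedModule.mkLinearMap (Submonoid.powers (c.a j hj)) (𝒟.M j)

instance Inputs.l_localized (j : ℕ) (hj : j < 𝒟.n) : IsLocalizedModule (Submonoid.powers (c.a j hj)) (c.l j hj) :=
  inferInstanceAs (IsLocalizedModule _ (LocalizedModule.mkLinearMap (Submonoid.powers (c.a j hj)) (𝒟.M j)))

/-- The shrunken module over the shrunken smooth algebra, as a base change. -/
theorem Inputs.isBaseChange (j : ℕ) (hj : j < 𝒟.n) :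
    letI : Module (Localization.Away (c.b j hj)) (c.M j hj) := Module.compHom _ (c.ba j hj).toRingHom
    letI : Module (𝒟.B j) (c.M j hj) := Module.compHom _ (algebraMap (𝒟.B j) (Localization.Away (c.b j hj)))
    haveI : IsScalarTower (𝒟.B j) (Localization.Away (c.b j hj)) (c.M j hj) := IsScalarTower.of_algebraMap_smul fun _ _ => rfl
    ∃ l : 𝒟.M j →ₗ[𝒟.B j] c.M j hj, IsBaseChange (Localization.Away (c.b j hj)) l ∧ ∀ m, l m = c.l j hj m :=
  isBaseChange_away (c.b j hj) (c.a j hj) rfl (c.ba j hj).toRingHom (c.ba_algebraMap j hj) (c.l j hj)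

/-- The next shrunken module over a shrunken smooth algebra, as a base change. -/
theorem Inputs.isBaseChange' (i : ℕ) (h : i + 1 < 𝒟.n) :
    letI : Module (Localization.Away (c.b i (Nat.lt_of_succ_lt h))) (c.M (i + 1) h) := Module.compHom _ (c.ba' i h).toRingHom
    letI : Module (𝒟.B i) (c.M (i + 1) h) := Module.compHom _ (algebraMap (𝒟.B i) (Localization.Away (c.b i (Nat.lt_of_succ_lt h))))
    haveI : IsScalarTower (𝒟.B i) (Localization.Away (c.b i (Nat.lt_of_succ_lt h))) (c.M (i + 1) h) := IsScalarTower.of_algebraMap_smul fun _ _ => rfl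
    ∃ l : 𝒟.M (i + 1) →ₗ[𝒟.B i] c.M (i + 1) h, IsBaseChange (Localization.Away (c.b i (Nat.lt_of_succ_lt h))) l ∧
      ∀ m, l m = c.l (i + 1) h m :=
  isBaseChange_away (c.b i (Nat.lt_of_succ_lt h)) (c.a (i + 1) h) (c.ba'_eq i h) (c.ba' i h).toRingHom
    (c.ba'_algebraMap i h) (c.l (i + 1) h)

/-- The shrunken map from the free module. -/
noncomputable def Inputs.α (j : ℕ) (hj : j < 𝒟.n) : (Fin (𝒟.r j) → Localization.Away (c.b j hj)) →+ c.M j hj :=
  letI : Module (Localization.Away (c.b j hj)) (c.M j hj) := Module.compHom _ (c.ba j hj).toRingHom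
  letI : Module (𝒟.B j) (c.M j hj) := Module.compHom _ (algebraMap (𝒟.B j) (Localization.Away (c.b j hj)))
  haveI : IsScalarTower (𝒟.B j) (Localization.Away (c.b j hj)) (c.M j hj) := IsScalarTower.of_algebraMap_smul fun _ _ => rfl
  (extendMap (B' := Localization.Away (c.b j hj)) (Classical.choose (c.isBaseChange j hj)) (𝒟.α j)).toAddMonoidHom

theorem Inputs.α_smul (j : ℕ) (hj : j < 𝒟.n) (x : Localization.Away (c.b j hj)) (v : Fin (𝒟.r j) → Localization.Away (c.b j hj)) :
    c.α j hj (x • v) = c.ba j hj x • c.α j hj v :=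
  letI : Module (Localization.Away (c.b j hj)) (c.M j hj) := Module.compHom _ (c.ba j hj).toRingHom
  letI : Module (𝒟.B j) (c.M j hj) := Module.compHom _ (algebraMap (𝒟.B j) (Localization.Away (c.b j hj)))
  haveI : IsScalarTower (𝒟.B j) (Localization.Away (c.b j hj)) (c.M j hj) := IsScalarTower.of_algebraMap_smul fun _ _ => rfl
  map_smul (extendMap (B' := Localization.Away (c.b j hj)) (Classical.choose (c.isBaseChange j hj)) (𝒟.α j)) x v

/-- The image of the shrunken map. -/
theorem Inputs.range_α (j : ℕ) (hj : j < 𝒟.n) :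
    letI : Module (Localization.Away (c.b j hj)) (c.M j hj) := Module.compHom _ (c.ba j hj).toRingHom
    ∀ x, (∃ v, c.α j hj v = x) ↔
      x ∈ Submodule.span (Localization.Away (c.b j hj)) (c.l j hj '' (LinearMap.range (𝒟.α j) : Set (𝒟.M j))) := by
  letI : Module (Localization.Away (c.b j hj)) (c.M j hj) := Module.compHom _ (c.ba j hj).toRingHom
  letI : Module (𝒟.B j) (c.M j hj) := Module.compHom _ (algebraMap (𝒟.B j) (Localization.Away (c.b j hj)))
  haveI : IsScalarTower (𝒟.B j) (Localization.Away (c.b j hj)) (c.M j hj) := IsScalarTower.of_algebraMap_smul fun _ _ => rfl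
  intro x
  have e : ⇑(Classical.choose (c.isBaseChange j hj)) = ⇑(c.l j hj) :=
    funext (Classical.choose_spec (c.isBaseChange j hj)).2
  rw [← e, ← range_extendMap (B' := Localization.Away (c.b j hj))]
  rfl

set_option maxHeartbeats 800000 in
theorem Inputs.exists_isoN :
    ∃ e : LocalizedModule (Submonoid.powers c.hX) N →+ c.M 0 𝒟.pos,
      (∀ (s : Localization.Away c.hX) (x : LocalizedModule (Submonoid.powers c.hX) N), e (s • x) = c.sa s • e x) ∧
      Function.Bijective e ∧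
      ∀ x : N, e (LocalizedModule.mkLinearMap (Submonoid.powers c.hX) N x) = c.l 0 𝒟.pos (𝒟.isoN x) := by
  let S' := Localization.Away c.hX
  letI : Module S' (c.M 0 𝒟.pos) := Module.compHom _ c.sa.toRingHom
  letI : Module S (c.M 0 𝒟.pos) := Module.compHom _ (algebraMap S S')
  haveI : IsScalarTower S S' (c.M 0 𝒟.pos) := IsScalarTower.of_algebraMap_smul fun _ _ => rfl
  obtain ⟨l, hM, hleq⟩ := isBaseChange_away (A := 𝒟.A 0) c.hX (c.a 0 𝒟.pos) c.sa_eq c.sa.toRingHom c.sa_algebraMap (c.l 0 𝒟.pos)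
  haveI : IsScalarTower S S (c.M 0 𝒟.pos) := IsScalarTower.left S
  have h' : IsBaseChange S' (l.comp 𝒟.isoN.toLinearMap) := (IsBaseChange.ofEquiv 𝒟.isoN).comp hM
  have hf : IsBaseChange S' (LocalizedModule.mkLinearMap (Submonoid.powers c.hX) N) :=
    (isLocalizedModule_iff_isBaseChange (Submonoid.powers c.hX) S' _).1 inferInstance
  refine ⟨(hf.equiv.symm ≪≫ₗ h'.equiv).toAddMonoidHom, fun s x => map_smul (hf.equiv.symm ≪≫ₗ h'.equiv) s x,
    (hf.equiv.symm ≪≫ₗ h'.equiv).bijective, fun x => ?_⟩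
  show h'.equiv (hf.equiv.symm _) = _
  rw [show hf.equiv.symm (LocalizedModule.mkLinearMap (Submonoid.powers c.hX) N x) = (1 : S') ⊗ₜ[S] x from
    hf.equiv.symm_apply_eq.2 (by rw [hf.equiv_tmul, one_smul]), h'.equiv_tmul, one_smul]
  exact hleq _

theorem Inputs.exists_coker (i : ℕ) (h : i + 1 < 𝒟.n) :
    ∃ φ : c.M i (Nat.lt_of_succ_lt h) →+ c.M (i + 1) h,
      (∀ b x, φ (c.ba i (Nat.lt_of_succ_lt h) b • x) = c.ba' i h b • φ x) ∧
      Function.Surjective φ ∧ ∀ x, φ x = 0 ↔ ∃ v, c.α i (Nat.lt_of_succ_lt h) v = x := by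
  let B' := Localization.Away (c.b i (Nat.lt_of_succ_lt h))
  letI : Module B' (c.M i (Nat.lt_of_succ_lt h)) := Module.compHom _ (c.ba i (Nat.lt_of_succ_lt h)).toRingHom
  letI : Module (𝒟.B i) (c.M i (Nat.lt_of_succ_lt h)) := Module.compHom _ (algebraMap (𝒟.B i) B')
  haveI : IsScalarTower (𝒟.B i) B' (c.M i (Nat.lt_of_succ_lt h)) := IsScalarTower.of_algebraMap_smul fun _ _ => rfl
  letI : Module B' (c.M (i + 1) h) := Module.compHom _ (c.ba' i h).toRingHom
  letI : Module (𝒟.B i) (c.M (i + 1) h) := Module.compHom _ (algebraMap (𝒟.B i) B')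
  haveI : IsScalarTower (𝒟.B i) B' (c.M (i + 1) h) := IsScalarTower.of_algebraMap_smul fun _ _ => rfl
  obtain ⟨l₁, hl₁, -⟩ := c.isBaseChange' i h
  have hl := (Classical.choose_spec (c.isBaseChange i (Nat.lt_of_succ_lt h))).1
  let φ₀ : 𝒟.M i →ₗ[𝒟.B i] 𝒟.M (i + 1) :=
    (𝒟.isoCoker i h).toLinearMap.comp (LinearMap.range (𝒟.α i)).mkQ
  have hc : Function.Surjective φ₀ := (𝒟.isoCoker i h).surjective.comp (Submodule.mkQ_surjective _)
  have hker : ∀ x, φ₀ x = 0 ↔ ∃ v, 𝒟.α i v = x := fun x => by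
    show (𝒟.isoCoker i h) ((LinearMap.range (𝒟.α i)).mkQ x) = 0 ↔ _
    rw [LinearEquiv.map_eq_zero_iff, Submodule.mkQ_apply, Submodule.Quotient.mk_eq_zero]
    rfl
  obtain ⟨hs, hk⟩ := coker_extend (B' := B') (Classical.choose (c.isBaseChange i (Nat.lt_of_succ_lt h))) (𝒟.α i) hl φ₀ hc hker l₁ hl₁
  exact ⟨(hl.lift (l₁.comp φ₀)).toAddMonoidHom, fun b x => map_smul (hl.lift (l₁.comp φ₀)) b x, hs, hk⟩

theorem Inputs.smooth_geomIrred (j : ℕ) (hj : j < 𝒟.n) :
    Algebra.Smooth (Localization.Away c.g) (Localization.Away (c.b j hj)) ∧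
      FlatCA.GeomIrredFibres (Localization.Away c.g) (Localization.Away (c.b j hj)) :=
  haveI := 𝒟.smooth j hj
  smooth_geomIrred_away (𝒟.geomIrred j hj) c.g (c.β j hj) (c.b j hj) rfl (c.hsub j hj)

variable [(p.map (algebraMap R (Localization.Away c.g))).IsPrime]

set_option maxHeartbeats 800000 in
/-- The shrunken dévissage, as data. -/
noncomputable def Inputs.data : Data (Localization.Away c.g) (Localization.Away c.hX)
    (LocalizedModule (Submonoid.powers c.hX) N) (p.map (algebraMap R (Localization.Away c.g))) where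
  n := 𝒟.n
  pos := 𝒟.pos
  A := fun j : Fin 𝒟.n => Localization.Away (c.a j j.2)
  B := fun j : Fin 𝒟.n => Localization.Away (c.b j j.2)
  M := fun j => c.M j j.2
  r := 𝒟.r
  ba := fun j => c.ba j j.2
  ba' := c.ba'
  sa := c.sa
  α := fun j => c.α j j.2
  α_smul := fun j => c.α_smul j j.2
  surjSA := surjective_away (A := 𝒟.A 0) c.hX (c.a 0 𝒟.pos) c.sa_eq c.sa.toRingHom c.sa_algebraMap 𝒟.surjSA
  fpSA := by
    haveI := 𝒟.fpSA
    exact fp_away (A := 𝒟.A 0) c.hX (c.a 0 𝒟.pos) c.sa_eq c.sa.toRingHom c.sa_algebraMap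
  surjBA' := fun i h => surjective_away _ _ (c.ba'_eq i h) (c.ba' i h).toRingHom (c.ba'_algebraMap i h) (𝒟.surjBA' i h)
  fpBA' := fun i h => by
    haveI := 𝒟.fpBA' i h
    exact fp_away _ _ (c.ba'_eq i h) (c.ba' i h).toRingHom (c.ba'_algebraMap i h)
  finiteBA := fun j => by
    haveI := 𝒟.finiteBA j j.2
    exact finite_away (c.b j j.2) (c.a j j.2) rfl (c.ba j j.2).toRingHom (c.ba_algebraMap j j.2)
  smooth := fun j => (c.smooth_geomIrred j j.2).1
  geomIrred := fun j => (c.smooth_geomIrred j j.2).2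
  finiteM := fun j => by
    haveI := 𝒟.finiteM j j.2
    exact Module.Finite.of_isLocalizedModule (Submonoid.powers (c.a j j.2)) (Rₚ := Localization.Away (c.a j j.2)) (c.l j j.2)
  hp := fun j => by
    haveI := (c.smooth_geomIrred j j.2).1
    exact isPrime_map (Localization.Away c.g) (Localization.Away (c.b j j.2)) (c.smooth_geomIrred j j.2).2 _
  isoN := Classical.choose c.exists_isoN
  isoN_smul := (Classical.choose_spec c.exists_isoN).1
  isoN_bij := (Classical.choose_spec c.exists_isoN).2.1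
  coker := fun i h => Classical.choose (c.exists_coker i h)
  coker_smul := fun i h => (Classical.choose_spec (c.exists_coker i h)).1
  coker_surj := fun i h => (Classical.choose_spec (c.exists_coker i h)).2.1
  coker_ker := fun i h => (Classical.choose_spec (c.exists_coker i h)).2.2
  fibreIso := fun j => by
    letI : Module (Localization.Away (c.b j j.2)) (c.M j j.2) := Module.compHom _ (c.ba j j.2).toRingHom
    letI : Module (𝒟.B j) (c.M j j.2) := Module.compHom _ (algebraMap (𝒟.B j) (Localization.Away (c.b j j.2)))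
    haveI : IsScalarTower (𝒟.B j) (Localization.Away (c.b j j.2)) (c.M j j.2) := IsScalarTower.of_algebraMap_smul fun _ _ => rfl
    haveI := 𝒟.hp j
    haveI := (c.smooth_geomIrred j j.2).1
    haveI := isPrime_map (Localization.Away c.g) (Localization.Away (c.b j j.2)) (c.smooth_geomIrred j j.2).2
      (p.map (algebraMap R (Localization.Away c.g)))
    haveI := 𝒟.smooth j j.2
    haveI : ((p.map (algebraMap R (Localization.Away c.g))).map (algebraMap (Localization.Away c.g)
        (Localization.Away (c.b j j.2)))).LiesOver (p.map (algebraMap R (𝒟.B j))) :=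
      map_liesOver_away p (c.b j j.2) (c.hb j j.2)
    exact bijective_baseChange_residueField (Classical.choose (c.isBaseChange j j.2))
      (Classical.choose_spec (c.isBaseChange j j.2)).1 (𝒟.r j) (𝒟.α j) _
      (fun v => extendMap_algebraMap _ (𝒟.α j) v) (p.map (algebraMap R (𝒟.B j)))
      ((p.map (algebraMap R (Localization.Away c.g))).map (algebraMap (Localization.Away c.g)
        (Localization.Away (c.b j j.2)))) (𝒟.fibreIso j j.2)
  cokerLast := by
    let j : Fin 𝒟.n := ⟨𝒟.n - 1, Nat.sub_one_lt_of_lt 𝒟.pos⟩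
    letI : Module (Localization.Away (c.b j j.2)) (c.M j j.2) := Module.compHom _ (c.ba j j.2).toRingHom
    letI : Module (𝒟.B j) (c.M j j.2) := Module.compHom _ (algebraMap (𝒟.B j) (Localization.Away (c.b j j.2)))
    haveI : IsScalarTower (𝒟.B j) (Localization.Away (c.b j j.2)) (c.M j j.2) := IsScalarTower.of_algebraMap_smul fun _ _ => rfl
    exact extendMap_surjective _ (𝒟.α j) (Classical.choose_spec (c.isBaseChange j j.2)).1 𝒟.cokerLast

end Groth.Agent.FlatDevLoc
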